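import Cfsg.Agent.Lib.Classical.Symplectic.Order
import Cfsg.Agent.Lib.Classical.LinearOrder

/-!
Mathlib's symplectic group as an isometry group.
-/

set_option autoImplicit false

namespace CfsgLib.Classical.Symp

open scoped Matrix
open LinearMap (BilinForm)

variable (m : ℕ) (F : Type*) [Field F]

/-- The standard alternating form on `F^(2m)` as a bilinear form. -/
noncomputable def sympBil : BilinForm F (Fin m ⊕ Fin m → F) :=
  Matrix.toBilin' (Matrix.J (Fin m) F)

theorem sympBil_apply (u v : Fin m ⊕ Fin m → F) :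
    sympBil m F u v = Cfsg.sympForm m F u v :=
  Matrix.toBilin'_apply' _ u v

theorem sympForm_expand (u v : Fin m ⊕ Fin m → F) :
    Cfsg.sympForm m F u v =
      ∑ i, (u (Sum.inr i) * v (Sum.inl i) - u (Sum.inl i) * v (Sum.inr i)) := by
  simp [Cfsg.sympForm, Matrix.J, Matrix.fromBlocks_mulVec, dotProduct, Fintype.sum_sum_type,
    Matrix.neg_mulVec]
  ring

theorem sympBil_isAlt : (sympBil m F).IsAlt := fun v => by
  rw [sympBil_apply, sympForm_expand]
  exact Finset.sum_eq_zero fun i _ => by ring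

theorem det_J_ne_zero : (Matrix.J (Fin m) F).det ≠ 0 := (Matrix.isUnit_det_J (Fin m) F).ne_zero

theorem sympBil_nondegenerate : (sympBil m F).Nondegenerate :=
  LinearMap.BilinForm.nondegenerate_toBilin'_of_det_ne_zero' _ (det_J_ne_zero m F)

theorem finrank_sympSpace : Module.finrank F (Fin m ⊕ Fin m → F) = 2 * m := by
  simp [two_mul]

variable {m F}

theorem mem_symplecticGroup_iff_form {A : Matrix (Fin m ⊕ Fin m) (Fin m ⊕ Fin m) F} :
    A ∈ Matrix.symplecticGroup (Fin m) F ↔
      ∀ u v, Cfsg.sympForm m F (A *ᵥ u) (A *ᵥ v) = Cfsg.sympForm m F u v := by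
  have key : ∀ u v : Fin m ⊕ Fin m → F, Cfsg.sympForm m F (A *ᵥ u) (A *ᵥ v) =
      u ⬝ᵥ ((Aᵀ * Matrix.J (Fin m) F * A) *ᵥ v) := by
    intro u v
    rw [Cfsg.sympForm, ← Matrix.mulVec_mulVec, ← Matrix.mulVec_mulVec, Matrix.dotProduct_mulVec u,
      Matrix.vecMul_transpose]
  rw [SymplecticGroup.mem_iff']
  constructor
  · intro h u v
    rw [key, h, Cfsg.sympForm]
  · intro h
    apply Matrix.toBilin'.injective
    refine LinearMap.ext fun u => LinearMap.ext fun v => ?_
    rw [Matrix.toBilin'_apply', Matrix.toBilin'_apply', ← key, h, Cfsg.sympForm]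

theorem det_ne_zero_of_mem {A : Matrix (Fin m ⊕ Fin m) (Fin m ⊕ Fin m) F}
    (h : A ∈ Matrix.symplecticGroup (Fin m) F) : A.det ≠ 0 :=
  (SymplecticGroup.symplectic_det h).ne_zero

variable (m F)

theorem val_spGL_mem (g : Cfsg.spGL m F) :
    ((g : Matrix.GeneralLinearGroup (Fin m ⊕ Fin m) F) :
      Matrix (Fin m ⊕ Fin m) (Fin m ⊕ Fin m) F) ∈ Matrix.symplecticGroup (Fin m) F :=
  mem_symplecticGroup_iff_form.2 g.2

theorem mkOfDetNeZero_mem (A : Matrix.symplecticGroup (Fin m) F) :
    Matrix.GeneralLinearGroup.mkOfDetNeZero (A : Matrix (Fin m ⊕ Fin m) (Fin m ⊕ Fin m) F)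
      (det_ne_zero_of_mem A.2) ∈ Cfsg.spGL m F := by
  intro u v
  exact mem_symplecticGroup_iff_form.1 A.2 u v

/-- Mathlib's symplectic group is `Cfsg.spGL`. -/
noncomputable def symplecticEquivSpGL : Matrix.symplecticGroup (Fin m) F ≃* Cfsg.spGL m F :=
  MonoidHom.toMulEquiv
    { toFun := fun A => ⟨_, mkOfDetNeZero_mem m F A⟩
      map_one' := Subtype.ext (Units.ext rfl)
      map_mul' := fun A A' => Subtype.ext (Units.ext rfl) }
    { toFun := fun g => ⟨_, val_spGL_mem m F g⟩
      map_one' := Subtype.ext rfl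
      map_mul' := fun g g' => Subtype.ext rfl }
    (MonoidHom.ext fun A => Subtype.ext rfl)
    (MonoidHom.ext fun g => Subtype.ext (Units.ext rfl))

theorem iso_sympForm_eq : Iso F (Cfsg.sympForm m F) = Sp (sympBil m F) := by
  ext g
  simp [mem_Iso, sympBil_apply]

/-- Mathlib's symplectic group is the isometry group of `sympBil`. -/
noncomputable def symplecticEquiv : Matrix.symplecticGroup (Fin m) F ≃* Sp (sympBil m F) :=
  (symplecticEquivSpGL m F).trans
    ((preservingEquivIso (Cfsg.sympForm m F)).trans (MulEquiv.subgroupCongr (iso_sympForm_eq m F)))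

variable {m F}

theorem symplecticEquiv_apply (A : Matrix.symplecticGroup (Fin m) F) (v : Fin m ⊕ Fin m → F) :
    (symplecticEquiv m F A : (Fin m ⊕ Fin m → F) ≃ₗ[F] (Fin m ⊕ Fin m → F)) v =
      (A : Matrix _ _ F) *ᵥ v := rfl

theorem symplecticEquiv_symm_mulVec (g : Sp (sympBil m F)) (v : Fin m ⊕ Fin m → F) :
    (((symplecticEquiv m F).symm g : Matrix.symplecticGroup (Fin m) F) : Matrix _ _ F) *ᵥ v =
      (g : (Fin m ⊕ Fin m → F) ≃ₗ[F] (Fin m ⊕ Fin m → F)) v := by
  conv_rhs => rw [← (symplecticEquiv m F).apply_symm_apply g, symplecticEquiv_apply]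

theorem symplecticEquiv_symm_tr (v : Fin m ⊕ Fin m → F) (c : F) :
    (((symplecticEquiv m F).symm (tr (sympBil_isAlt m F) v c) :
      Matrix.symplecticGroup (Fin m) F) : Matrix _ _ F) = Cfsg.sympTransvection m v c := by
  refine Matrix.toLin'.injective (LinearMap.ext fun x => ?_)
  rw [Matrix.toLin'_apply, Matrix.toLin'_apply, symplecticEquiv_symm_mulVec, tr_apply,
    sympBil_apply, Cfsg.sympTransvection, Matrix.add_mulVec, Matrix.one_mulVec,
    Matrix.smul_mulVec, Matrix.vecMulVec_mulVec, Cfsg.sympForm, dotProduct_comm x]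
  simp [smul_smul]

theorem sympTransvection_mem (v : Fin m ⊕ Fin m → F) (c : F) :
    Cfsg.sympTransvection m v c ∈ Matrix.symplecticGroup (Fin m) F := by
  rw [← symplecticEquiv_symm_tr]
  exact Subtype.coe_prop _

theorem card_symplecticGroup [Fintype F] :
    Nat.card (Matrix.symplecticGroup (Fin m) F) = Fintype.card F ^ (m ^ 2) *
      ∏ i ∈ Finset.range m, (Fintype.card F ^ (2 * (i + 1)) - 1) := by
  rw [Nat.card_congr (symplecticEquiv m F).toEquiv,
    card_Sp (sympBil_isAlt m F) (sympBil_nondegenerate m F) m (finrank_sympSpace m F),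
    Nat.card_eq_fintype_card]

end CfsgLib.Classical.Symp
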