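import Cfsg.Agent.Lib.Classical.Symplectic.Matrix
import Cfsg.Agent.Lib.Classical.Bilin
import Cfsg.Agent.Lib.Classical.Quad.Sym

/-!
Symplectic bases, totally isotropic subspaces and their stabilisers in the symplectic groups.
-/

set_option autoImplicit false

namespace CfsgLib.Classical.Symp

open LinearMap (BilinForm)

variable {F : Type*} [Field F] {V : Type*} [AddCommGroup V] [Module F V] {B : BilinForm F V}

/-! ### Symplectic bases -/

/-- The defining relations of a symplectic system. -/
def IsSympSys (B : BilinForm F V) {m : ℕ} (v : Fin m ⊕ Fin m → V) : Prop :=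
  (∀ i j, B (v (.inl i)) (v (.inr j)) = if i = j then 1 else 0) ∧
    (∀ i j, B (v (.inl i)) (v (.inl j)) = 0) ∧ ∀ i j, B (v (.inr i)) (v (.inr j)) = 0

theorem IsSympSys.linearIndependent (hA : B.IsAlt) {m : ℕ} {v : Fin m ⊕ Fin m → V}
    (h : IsSympSys B v) : LinearIndependent F v := by
  rw [Fintype.linearIndependent_iff]
  intro g hg k
  obtain ⟨h1, h2, h3⟩ := h
  have h4 : ∀ i j, B (v (.inr i)) (v (.inl j)) = if j = i then -1 else 0 := fun i j => by
    rw [swap hA (v (.inl j)) (v (.inr i)), h1]
    split_ifs <;> simp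
  rcases k with i | i
  · have := congrArg (B (v (.inr i))) hg
    simpa [Fintype.sum_sum_type, h3, h4] using this
  · have := congrArg (B (v (.inl i))) hg
    simpa [Fintype.sum_sum_type, h1, h2] using this

theorem exists_sympSys [FiniteDimensional F V] (hA : B.IsAlt) (hB : B.Nondegenerate) :
    ∃ (m : ℕ) (v : Fin m ⊕ Fin m → V), IsSympSys B v ∧ Module.finrank F V = 2 * m := by
  induction hk : Module.finrank F V using Nat.strong_induction_on generalizing V with
  | _ k ih =>
  subst hk
  rcases Nat.eq_zero_or_pos (Module.finrank F V) with h0 | hpos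
  · exact ⟨0, fun i => i.elim Fin.elim0 Fin.elim0,
      ⟨fun i => i.elim0, fun i => i.elim0, fun i => i.elim0⟩, by omega⟩
  have : Nontrivial V := Module.nontrivial_of_finrank_pos (R := F) hpos
  obtain ⟨u, hu⟩ := exists_ne (0 : V)
  obtain ⟨w, -, huw⟩ := exists_partner (nondeg_top hB) (Submodule.mem_top (x := u)) hu
  obtain ⟨hc, hUn⟩ := nondeg_orthogonal hA hB (nondeg_pair hA huw)
  have hrW : Module.finrank F (Submodule.span F ({u, w} : Set V)) = 2 := by
    have h := finrank_span_eq_card (linearIndependent_pair_of_one hA huw)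
    rwa [Matrix.range_cons_cons_empty, Fintype.card_fin] at h
  have hr := Submodule.finrank_add_eq_of_isCompl hc
  obtain ⟨m, v, hv, hm⟩ := ih _ (by omega)
    (B := B.restrict (B.orthogonal (Submodule.span F ({u, w} : Set V)))) (restrict_isAlt hA _)
    (restrict_nondegenerate hA hUn) rfl
  obtain ⟨h1, h2, h3⟩ := hv
  have hperp : ∀ k, B u (v k : V) = 0 ∧ B w (v k : V) = 0 := fun k =>
    ⟨mem_orthogonal.1 (v k).2 u (Submodule.subset_span (Set.mem_insert u _)),
      mem_orthogonal.1 (v k).2 w (Submodule.subset_span (Set.mem_insert_of_mem u rfl))⟩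
  have hperp' : ∀ k, B (v k : V) u = 0 ∧ B (v k : V) w = 0 := fun k =>
    ⟨by rw [swap hA u (v k : V), (hperp k).1, neg_zero],
      by rw [swap hA w (v k : V), (hperp k).2, neg_zero]⟩
  let a : Fin (m + 1) → V := Fin.cons u fun i => (v (.inl i) : V)
  let b : Fin (m + 1) → V := Fin.cons w fun i => (v (.inr i) : V)
  refine ⟨m + 1, Sum.elim a b, ⟨fun i j => ?_, fun i j => ?_, fun i j => ?_⟩, by omega⟩
  · induction i using Fin.cases with
    | zero =>
      induction j using Fin.cases with
      | zero => simp [a, b, huw]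
      | succ j => simp [a, b, (hperp _).1, (Fin.succ_ne_zero j).symm]
    | succ i =>
      induction j using Fin.cases with
      | zero => simp [a, b, (hperp' _).2, Fin.succ_ne_zero i]
      | succ j =>
        have : B (v (.inl i) : V) (v (.inr j) : V) = (if i = j then 1 else 0) := h1 i j
        simp [a, b, this]
  · induction i using Fin.cases with
    | zero =>
      induction j using Fin.cases with
      | zero => simp [a, hA u]
      | succ j => simp [a, (hperp _).1]
    | succ i =>
      induction j using Fin.cases with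
      | zero => simp [a, (hperp' _).1]
      | succ j =>
        have : B (v (.inl i) : V) (v (.inl j) : V) = 0 := h2 i j
        simp [a, this]
  · induction i using Fin.cases with
    | zero =>
      induction j using Fin.cases with
      | zero => simp [b, hA w]
      | succ j => simp [b, (hperp _).2]
    | succ i =>
      induction j using Fin.cases with
      | zero => simp [b, (hperp' _).2]
      | succ j =>
        have : B (v (.inr i) : V) (v (.inr j) : V) = 0 := h3 i j
        simp [b, this]

theorem exists_basis_with_radical [FiniteDimensional F V] (hA : B.IsAlt) :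
    ∃ (m k : ℕ) (b : Module.Basis ((Fin m ⊕ Fin m) ⊕ Fin k) F V),
      (∀ i j : Fin m, B (b (Sum.inl (Sum.inl i))) (b (Sum.inl (Sum.inr j))) =
        if i = j then 1 else 0) ∧
      (∀ i j : Fin m, B (b (Sum.inl (Sum.inl i))) (b (Sum.inl (Sum.inl j))) = 0) ∧
      (∀ i j : Fin m, B (b (Sum.inl (Sum.inr i))) (b (Sum.inl (Sum.inr j))) = 0) ∧
      (∀ (j : Fin k) (v : V), B (b (Sum.inr j)) v = 0) := by
  let R : Submodule F V := LinearMap.ker B
  obtain ⟨W, hW⟩ := Submodule.exists_isCompl R
  have hnd : ∀ x ∈ W, (∀ y ∈ W, B x y = 0) → x = 0 := by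
    intro x hx hxW
    refine Submodule.disjoint_def.1 hW.disjoint x ?_ hx
    refine LinearMap.mem_ker.2 (LinearMap.ext fun y => ?_)
    obtain ⟨r, w, hr, hw, rfl⟩ := Submodule.codisjoint_iff_exists_add_eq.1 hW.codisjoint y
    rw [map_add, hxW w hw, swap hA r x, LinearMap.mem_ker.1 hr]
    simp
  obtain ⟨m, v, hv, hm⟩ := exists_sympSys (B := B.restrict W) (restrict_isAlt hA W)
    (restrict_nondegenerate hA hnd)
  let bW : Module.Basis (Fin m ⊕ Fin m) F W :=
    basisOfLinearIndependentOfCardEqFinrank' _ (hv.linearIndependent (restrict_isAlt hA W))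
      (by simp [hm]; ring)
  have hbW : ∀ i, bW i = v i := fun i => by simp [bW]
  let bR := Module.finBasis F R
  let b := (bW.prod bR).map (Submodule.prodEquivOfIsCompl W R hW.symm)
  refine ⟨m, Module.finrank F R, b, fun i j => ?_, fun i j => ?_, fun i j => ?_, fun j y => ?_⟩
  · simpa [b, hbW, LinearMap.BilinForm.restrict_apply] using hv.1 i j
  · simpa [b, hbW, LinearMap.BilinForm.restrict_apply] using hv.2.1 i j
  · simpa [b, hbW, LinearMap.BilinForm.restrict_apply] using hv.2.2 i j
  · have h := LinearMap.mem_ker.1 (bR j).2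
    simp [b, h]

theorem exists_isometry [FiniteDimensional F V] {W : Type*} [AddCommGroup W] [Module F W]
    [FiniteDimensional F W] {B' : BilinForm F W} (hA : B.IsAlt) (hB : B.Nondegenerate)
    (hA' : B'.IsAlt) (hB' : B'.Nondegenerate) (hd : Module.finrank F V = Module.finrank F W) :
    ∃ e : V ≃ₗ[F] W, ∀ u v, B' (e u) (e v) = B u v := by
  obtain ⟨m, v, hv, hm⟩ := exists_sympSys hA hB
  obtain ⟨m', v', hv', hm'⟩ := exists_sympSys hA' hB'
  obtain rfl : m' = m := by omega
  let b : Module.Basis (Fin m' ⊕ Fin m') F V :=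
    basisOfLinearIndependentOfCardEqFinrank' _ (hv.linearIndependent hA) (by simp [hm]; ring)
  let c : Module.Basis (Fin m' ⊕ Fin m') F W :=
    basisOfLinearIndependentOfCardEqFinrank' _ (hv'.linearIndependent hA') (by simp [hm']; ring)
  refine ⟨b.equiv c (Equiv.refl _), Quad.equiv_of_gram b c B B' fun i j => ?_⟩
  obtain ⟨h1, h2, h3⟩ := hv
  obtain ⟨h1', h2', h3'⟩ := hv'
  rcases i with i | i <;> rcases j with j | j
  · simp [b, c, h2, h2']
  · simp [b, c, h1, h1']
  · simp [b, c, swap hA (v (.inl j)) (v (.inr i)), swap hA' (v' (.inl j)) (v' (.inr i)), h1, h1']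
  · simp [b, c, h3, h3']

/-! ### Totally isotropic tuples -/

/-- The factor `∏ (q ^ (2 (i + 1)) - 1)`. -/
def ordProd (q m : ℕ) : ℕ := ∏ i ∈ Finset.range m, (q ^ (2 * (i + 1)) - 1)

theorem ordProd_pos {q : ℕ} (hq : 2 ≤ q) (m : ℕ) : 0 < ordProd q m :=
  Finset.prod_pos fun i _ => by
    have : 2 ≤ q ^ (2 * (i + 1)) := le_trans hq (Nat.le_self_pow (by omega) q)
    omega

/-- The linearly independent totally isotropic tuples. -/
def isoTuples (B : BilinForm F V) (k : ℕ) : Set (Fin k → V) :=
  {v | LinearIndependent F v ∧ ∀ i j, B (v i) (v j) = 0}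

theorem card_isoTuples_tail [Finite F] [FiniteDimensional F V] (hA : B.IsAlt) {u f : V}
    (huf : B u f = 1) (k : ℕ) :
    Nat.card {w : Fin k → V // Fin.cons u w ∈ isoTuples B (k + 1)} =
      Nat.card F ^ k *
        Nat.card (isoTuples (B.restrict (B.orthogonal (Submodule.span F ({u, f} : Set V)))) k) := by
  set U := B.orthogonal (Submodule.span F ({u, f} : Set V)) with hU
  have hfu : B f u = -1 := by rw [swap hA u f, huf]
  have huu : B u u = 0 := hA u
  have hu : ∀ z ∈ U, B u z = 0 := fun z hz =>
    mem_orthogonal.1 hz u (Submodule.subset_span (Set.mem_insert u _))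
  have hf : ∀ z ∈ U, B f z = 0 := fun z hz =>
    mem_orthogonal.1 hz f (Submodule.subset_span (Set.mem_insert_of_mem u rfl))
  have hu' : ∀ z ∈ U, B z u = 0 := fun z hz => by rw [swap hA u z, hu z hz, neg_zero]
  have hmem : ∀ w : Fin k → V, Fin.cons u w ∈ isoTuples B (k + 1) →
      ∀ i, w i + B f (w i) • u ∈ U := by
    intro w hw i
    rw [hU, mem_orthogonal]
    intro p hp
    obtain ⟨r, s, rfl⟩ := Submodule.mem_span_pair.1 hp
    have h0 : B u (w i) = 0 := by simpa using hw.2 0 i.succ
    simp [h0, huu, hfu]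
  have key : ∀ (t : Fin k → F) (z : Fin k → U),
      Fin.cons u (fun i => t i • u + (z i : V)) ∈ isoTuples B (k + 1) ↔
        z ∈ isoTuples (B.restrict U) k := by
    intro t z
    constructor
    · rintro ⟨hli, hiso⟩
      refine ⟨?_, fun i j => ?_⟩
      · rw [Fintype.linearIndependent_iff] at hli ⊢
        intro g hg i
        have hg' : ∑ i, g i • (z i : V) = 0 := by
          have := congrArg Subtype.val hg
          simpa using this
        have := hli (Fin.cons (-∑ i, g i * t i) g) (by
          rw [Fin.sum_univ_succ]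
          simp only [Fin.cons_zero, Fin.cons_succ, smul_add, Finset.sum_add_distrib, hg', add_zero,
            smul_smul, ← Finset.sum_smul, neg_smul, neg_add_cancel]) i.succ
        simpa using this
      · have := hiso i.succ j.succ
        simpa [huu, hu _ (z j).2, hu' _ (z i).2] using this
    · rintro ⟨hli, hiso⟩
      refine ⟨?_, fun i j => ?_⟩
      · rw [Fintype.linearIndependent_iff] at hli ⊢
        intro g hg
        rw [Fin.sum_univ_succ] at hg
        simp only [Fin.cons_zero, Fin.cons_succ, smul_add, Finset.sum_add_distrib, smul_smul,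
          ← Finset.sum_smul, ← add_assoc, ← add_smul] at hg
        have h0 := congrArg (B f) hg
        have hz : B f (∑ i, g (Fin.succ i) • (z i : V)) = 0 := by
          rw [map_sum]
          exact Finset.sum_eq_zero fun i _ => by rw [map_smul, hf _ (z i).2, smul_zero]
        rw [map_add, map_smul, hfu, smul_eq_mul, mul_neg_one, hz, map_zero, add_zero,
          neg_eq_zero] at h0
        rw [h0, zero_smul, zero_add] at hg
        have hs := hli (fun i => g i.succ) (Subtype.ext (by simpa using hg))
        intro i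
        refine Fin.cases ?_ hs i
        simpa [hs] using h0
      · refine Fin.cases ?_ (fun i => ?_) i
        · refine Fin.cases ?_ (fun j => ?_) j
          · simpa using huu
          · simp [huu, hu _ (z j).2]
        · refine Fin.cases ?_ (fun j => ?_) j
          · simp [huu, hu' _ (z i).2]
          · have hij : B (z i : V) (z j : V) = 0 := hiso i j
            simp [huu, hu _ (z j).2, hu' _ (z i).2, hij]
  rw [show Nat.card F ^ k = Nat.card (Fin k → F) by rw [Nat.card_fun, Nat.card_fin],
    ← Nat.card_prod]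
  exact Nat.card_congr
    { toFun := fun w => (fun i => -B f ((w : Fin k → V) i),
        ⟨fun i => ⟨(w : Fin k → V) i + B f ((w : Fin k → V) i) • u, hmem w w.2 i⟩, by
          refine (key (fun i => -B f ((w : Fin k → V) i)) _).1 ?_
          simp only [neg_smul, neg_add_cancel_comm_assoc]
          exact w.2⟩)
      invFun := fun p => ⟨fun i => p.1 i • u + ((p.2 : Fin k → U) i : V), (key _ _).2 p.2.2⟩
      left_inv := fun w => Subtype.ext (funext fun i => by simp)
      right_inv := fun p => by
        refine Prod.ext (funext fun i => ?_) (Subtype.ext (funext fun i => Subtype.ext ?_))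
        · simp [hfu, hf _ ((p.2 : Fin k → U) i).2]
        · simp [hfu, hf _ ((p.2 : Fin k → U) i).2] }

theorem card_isoTuples [Finite F] [FiniteDimensional F V] (hA : B.IsAlt) (hB : B.Nondegenerate)
    {m k : ℕ} (hm : Module.finrank F V = 2 * m) (hk : k ≤ m) :
    Nat.card (isoTuples B k) * ordProd (Nat.card F) (m - k) =
      Nat.card F ^ (k * (k - 1) / 2) * ordProd (Nat.card F) m := by
  classical
  induction k generalizing V m with
  | zero =>
    have : Nat.card (isoTuples B 0) = 1 := by
      rw [Nat.card_eq_one_iff_unique]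
      exact ⟨inferInstance,
        ⟨⟨Fin.elim0, linearIndependent_empty_type, fun i => i.elim0⟩⟩⟩
    rw [this]
    simp
  | succ k ih =>
    obtain ⟨m, rfl⟩ : ∃ m', m = m' + 1 := ⟨m - 1, by omega⟩
    have : Finite V := Module.finite_of_finite F
    have : Fintype {u : V // u ≠ 0} := Fintype.ofFinite _
    set q := Nat.card F with hq
    have e : isoTuples B (k + 1) ≃ Σ u : {u : V // u ≠ 0},
        {w : Fin k → V // Fin.cons (u : V) w ∈ isoTuples B (k + 1)} :=
      { toFun := fun v => ⟨⟨(v : Fin (k + 1) → V) 0, v.2.1.ne_zero 0⟩,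
          Fin.tail (v : Fin (k + 1) → V), by rw [Fin.cons_self_tail]; exact v.2⟩
        invFun := fun s => ⟨Fin.cons (s.1 : V) (s.2 : Fin k → V), s.2.2⟩
        left_inv := fun v => Subtype.ext (Fin.cons_self_tail _)
        right_inv := fun s => by
          obtain ⟨⟨u, hu⟩, w, hw⟩ := s
          refine Sigma.subtype_ext ?_ ?_ <;> simp }
    rw [Nat.card_congr e, Nat.card_sigma, Finset.sum_mul,
      Finset.sum_congr rfl (g := fun _ => q ^ k * (q ^ (k * (k - 1) / 2) * ordProd q m)) ?_,
      Finset.sum_const, Finset.card_univ, ← Nat.card_eq_fintype_card,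
      natCard_ne_zero_eq (F := F), hm, smul_eq_mul, ordProd, ordProd, Finset.prod_range_succ, ← hq]
    · rw [show (k + 1) * (k + 1 - 1) / 2 = k + k * (k - 1) / 2 by
        rw [← Finset.sum_range_id, ← Finset.sum_range_id, Finset.sum_range_succ, add_comm],
        pow_add]
      ring
    · rintro ⟨u, hu0⟩ -
      obtain ⟨f, -, huf⟩ := exists_partner (nondeg_top hB) (Submodule.mem_top (x := u)) hu0
      obtain ⟨hc, hUn⟩ := nondeg_orthogonal hA hB (nondeg_pair hA huf)
      have hrW : Module.finrank F (Submodule.span F ({u, f} : Set V)) = 2 := by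
        have h := finrank_span_eq_card (linearIndependent_pair_of_one hA huf)
        rwa [Matrix.range_cons_cons_empty, Fintype.card_fin] at h
      have hr := Submodule.finrank_add_eq_of_isCompl hc
      rw [card_isoTuples_tail hA huf, mul_assoc, show m + 1 - (k + 1) = m - k by omega,
        ih (restrict_isAlt hA _) (restrict_nondegenerate hA hUn) (m := m) (by omega) (by omega)]

theorem exists_map_isoTuples [FiniteDimensional F V] (hA : B.IsAlt) (hB : B.Nondegenerate) {k : ℕ}
    {v v' : Fin k → V} (hv : v ∈ isoTuples B k) (hv' : v' ∈ isoTuples B k) :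
    ∃ g : Sp B, ∀ i, (g : V ≃ₗ[F] V) (v i) = v' i := by
  let b : Module.Basis (Fin k) F (Submodule.span F (Set.range v)) := Module.Basis.span hv.1
  let φ : Submodule.span F (Set.range v) →ₗ[F] V := b.constr F v'
  have hinj : Function.Injective φ := by
    rw [injective_iff_map_eq_zero]
    intro p hp
    rw [← b.sum_repr p, map_sum] at hp
    simp only [map_smul, φ, Module.Basis.constr_basis] at hp
    have := Fintype.linearIndependent_iff.1 hv'.1 _ hp
    rw [← b.sum_repr p]
    simp [this]
  have hzero : ∀ a : Submodule.span F (Set.range v), ∀ c : Submodule.span F (Set.range v),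
      B (φ a) (φ c) = B (a : V) c := by
    intro a c
    rw [← b.sum_repr a, ← b.sum_repr c]
    simp only [map_sum, map_smul, φ, Module.Basis.constr_basis, Submodule.coe_sum,
      Submodule.coe_smul, LinearMap.sum_apply, LinearMap.smul_apply, b,
      Module.Basis.coe_span_apply, hv.2, hv'.2]
  obtain ⟨g, hg, hgX⟩ := Bilin.witt_alt hB hA _ φ hinj hzero
  refine ⟨⟨g, hg⟩, fun i => ?_⟩
  have := hgX (b i)
  simp only [φ, Module.Basis.constr_basis] at this
  rw [← this, show ((b i : Submodule.span F (Set.range v)) : V) = v i from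
    Module.Basis.coe_span_apply hv.1 i]

theorem card_subgroup_mul [Finite F] [FiniteDimensional F V] (hA : B.IsAlt) (hB : B.Nondegenerate)
    {k : ℕ} {v₀ : Fin k → V} (hv₀ : v₀ ∈ isoTuples B k) (S : Subgroup (Sp B))
    (hfix : ∀ g : Sp B, (∀ i, (g : V ≃ₗ[F] V) (v₀ i) = v₀ i) → g ∈ S) :
    Nat.card (isoTuples B k) * Nat.card S =
      Nat.card {v : Fin k → V | ∃ g ∈ S, ∀ i, (g : V ≃ₗ[F] V) (v₀ i) = v i} *
        Nat.card (Sp B) := by
  have : Finite V := Module.finite_of_finite F
  have : Finite (V ≃ₗ[F] V) := Finite.of_injective _ DFunLike.coe_injective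
  have horb : MulAction.orbit (Sp B) v₀ = isoTuples B k := by
    ext v
    constructor
    · rintro ⟨g, rfl⟩
      refine ⟨hv₀.1.map' ((g : V ≃ₗ[F] V) : V →ₗ[F] V) (LinearEquiv.ker _), fun i j => ?_⟩
      exact (g.2 _ _).trans (hv₀.2 i j)
    · intro hv
      obtain ⟨g, hg⟩ := exists_map_isoTuples hA hB hv₀ hv
      exact ⟨g, funext hg⟩
  have horb' : MulAction.orbit S v₀ =
      {v : Fin k → V | ∃ g ∈ S, ∀ i, (g : V ≃ₗ[F] V) (v₀ i) = v i} := by
    ext v
    constructor
    · rintro ⟨g, rfl⟩
      exact ⟨g, g.2, fun i => rfl⟩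
    · rintro ⟨g, hg, e⟩
      exact ⟨⟨g, hg⟩, funext e⟩
  have hle : MulAction.stabilizer (Sp B) v₀ ≤ S := fun g hg =>
    hfix g (congrFun (MulAction.mem_stabilizer_iff.1 hg))
  have e : MulAction.stabilizer S v₀ ≃ MulAction.stabilizer (Sp B) v₀ :=
    { toFun := fun g => ⟨(g : S).1, g.2⟩
      invFun := fun g => ⟨⟨g.1, hle g.2⟩, g.2⟩
      left_inv := fun _ => rfl
      right_inv := fun _ => rfl }
  have k1 : Nat.card (isoTuples B k) * Nat.card (MulAction.stabilizer (Sp B) v₀) =
      Nat.card (Sp B) := by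
    rw [← horb, ← Nat.card_prod]
    exact Nat.card_congr (MulAction.orbitProdStabilizerEquivGroup _ _)
  have k2 : Nat.card {v : Fin k → V | ∃ g ∈ S, ∀ i, (g : V ≃ₗ[F] V) (v₀ i) = v i} *
      Nat.card (MulAction.stabilizer (Sp B) v₀) = Nat.card S := by
    rw [← horb', ← Nat.card_congr e, ← Nat.card_prod]
    exact Nat.card_congr (MulAction.orbitProdStabilizerEquivGroup _ _)
  rw [← k2, ← k1]
  ring

theorem card_isoStab [Finite F] [FiniteDimensional F V] (hA : B.IsAlt) (hB : B.Nondegenerate)
    {m k : ℕ} (hm : Module.finrank F V = 2 * m) (hk : k ≤ m) (W : Submodule F V)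
    (hWk : Module.finrank F W = k) (hW : ∀ u ∈ W, ∀ v ∈ W, B u v = 0) :
    Nat.card (isoStab (fun u v => B u v) W) =
      Nat.card F ^ (k * (k + 1) / 2 + 2 * k * (m - k)) *
        (Nat.card F ^ ((m - k) ^ 2) * ordProd (Nat.card F) (m - k)) *
        ∏ i : Fin k, (Nat.card F ^ k - Nat.card F ^ (i : ℕ)) := by
  classical
  have : Fintype F := Fintype.ofFinite F
  have : Finite V := Module.finite_of_finite F
  let c := Module.finBasisOfFinrankEq F W hWk
  let v₀ : Fin k → V := fun i => (c i : V)
  have hv₀ : v₀ ∈ isoTuples B k :=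
    ⟨c.linearIndependent.map' W.subtype W.ker_subtype, fun i j => hW _ (c i).2 _ (c j).2⟩
  set S := isoStab (fun u v => B u v) W with hS
  have hspan : ∀ (g : Sp B) (y : V) (hy : y ∈ W), (g : V ≃ₗ[F] V) y =
      ∑ i, c.repr ⟨y, hy⟩ i • (g : V ≃ₗ[F] V) (v₀ i) := fun g y hy => by
    conv_lhs => rw [show y = ∑ i, c.repr ⟨y, hy⟩ i • v₀ i by
      have := congrArg Subtype.val (c.sum_repr ⟨y, hy⟩)
      simp only [Submodule.coe_sum, Submodule.coe_smul] at this
      exact this.symm]
    simp
  have hmap : ∀ g : Sp B, (∀ i, (g : V ≃ₗ[F] V) (v₀ i) ∈ W) → g ∈ S := by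
    intro g hg
    have hle : W.map ((g : V ≃ₗ[F] V) : V →ₗ[F] V) ≤ W := by
      rintro _ ⟨y, hy, rfl⟩
      show (g : V ≃ₗ[F] V) y ∈ W
      rw [hspan g y hy]
      exact Submodule.sum_mem _ fun i _ => W.smul_mem _ (hg i)
    have heq := Submodule.eq_of_le_of_finrank_eq hle
      (LinearEquiv.finrank_map_eq (g : V ≃ₗ[F] V) W)
    intro x
    constructor
    · exact fun hx => hle ⟨x, hx, rfl⟩
    · intro hx
      rw [← heq] at hx
      obtain ⟨y, hy, e⟩ := hx
      rwa [← (g : V ≃ₗ[F] V).injective e]
  have h1 := card_subgroup_mul hA hB hv₀ S fun g hg => hmap g fun i => by rw [hg]; exact (c i).2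
  have : Fintype W := Fintype.ofFinite W
  have k3 : Nat.card {v : Fin k → V | ∃ g ∈ S, ∀ i, (g : V ≃ₗ[F] V) (v₀ i) = v i} =
      ∏ i : Fin k, (Nat.card F ^ k - Nat.card F ^ (i : ℕ)) := by
    have e' : {s : Fin k → W // LinearIndependent F s} ≃
        {v : Fin k → V | ∃ g ∈ S, ∀ i, (g : V ≃ₗ[F] V) (v₀ i) = v i} :=
      { toFun := fun s => ⟨fun i => ((s : Fin k → W) i : V), by
          obtain ⟨g, hg⟩ := exists_map_isoTuples hA hB hv₀
            ⟨s.2.map' W.subtype W.ker_subtype,
              fun i j => hW _ ((s : Fin k → W) i).2 _ ((s : Fin k → W) j).2⟩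
          exact ⟨g, hmap g fun i => by rw [hg]; exact ((s : Fin k → W) i).2, hg⟩⟩
        invFun := fun v => ⟨fun i => ⟨(v : Fin k → V) i, by
            obtain ⟨g, hg, e⟩ := v.2
            rw [← e]
            exact (hg _).1 (c i).2⟩,
          LinearIndependent.of_comp W.subtype (by
            obtain ⟨g, hg, e⟩ := v.2
            have hli := hv₀.1.map' ((g : V ≃ₗ[F] V) : V →ₗ[F] V) (LinearEquiv.ker _)
            have hv : (fun i => ((g : V ≃ₗ[F] V) (v₀ i))) = fun i => (v : Fin k → V) i := funext e
            show LinearIndependent F (fun i => (v : Fin k → V) i)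
            rw [← hv]
            exact hli)⟩
        left_inv := fun _ => rfl
        right_inv := fun _ => rfl }
    rw [← Nat.card_congr e', card_linearIndependent (by rw [hWk]), hWk, Nat.card_eq_fintype_card]
  rw [k3, card_Sp hA hB m hm] at h1
  have h2 := card_isoTuples hA hB hm hk
  set q := Nat.card F with hq
  have hq2 : 2 ≤ q := by rw [hq, Nat.card_eq_fintype_card]; exact Fintype.one_lt_card
  set P := ∏ i : Fin k, (q ^ k - q ^ (i : ℕ))
  have hexp : k * (k + 1) / 2 + 2 * k * (m - k) + (m - k) ^ 2 + k * (k - 1) / 2 = m ^ 2 := by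
    obtain ⟨d, rfl⟩ : ∃ d, m = k + d := ⟨m - k, by omega⟩
    rw [Nat.add_sub_cancel_left]
    have a1 : k * (k + 1) / 2 + k * (k - 1) / 2 = k ^ 2 := by
      have e : k * (k + 1) / 2 = k * (k - 1) / 2 + k := by
        rw [mul_comm k (k + 1), ← Finset.sum_range_id,
          show (k + 1) * k = (k + 1) * (k + 1 - 1) by simp, ← Finset.sum_range_id,
          Finset.sum_range_succ]
      rcases k with _ | j
      · simp
      · have h3 := Finset.sum_range_id_mul_two (j + 1)
        rw [Finset.sum_range_id] at h3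
        simp only [Nat.add_sub_cancel] at e h3 ⊢
        have : (j + 1) ^ 2 = (j + 1) * j + (j + 1) := by ring
        omega
    nlinarith
  apply Nat.eq_of_mul_eq_mul_left
    (Nat.mul_pos (Nat.pow_pos (n := k * (k - 1) / 2) (by omega : 0 < q)) (ordProd_pos hq2 m))
  rw [show q ^ (k * (k - 1) / 2) * ordProd q m * Nat.card S =
    ordProd q (m - k) * (Nat.card (isoTuples B k) * Nat.card S) by rw [← h2]; ring,
    h1, ← hexp, pow_add, pow_add]
  simp only [ordProd]
  ring

end CfsgLib.Classical.Symp
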