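import Cfsg.Agent.Lib.Classical.Symplectic.Order
import Cfsg.Agent.Lib.Classical.SimpleQuot

/-!
Centre, perfectness, primitivity on points and simplicity of the symplectic groups.
-/

set_option autoImplicit false

namespace CfsgLib.Classical.Symp

open LinearMap (BilinForm)
open scoped LinearAlgebra.Projectivization Pointwise commutatorElement

variable {F : Type*} [Field F] {V : Type*} [AddCommGroup V] [Module F V] {B : BilinForm F V}

/-! ### Centre -/

theorem exists_smul_of_forall_mem_span (g : V ≃ₗ[F] V) (h : ∀ v, ∃ c : F, g v = c • v) :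
    ∃ a : F, ∀ v, g v = a • v := by
  obtain ⟨a, ha⟩ :=
    LinearMap.exists_eq_smul_id_of_forall_notLinearIndependent (f := g.toLinearMap) fun v hli => by
      obtain ⟨c, hc⟩ := h v
      obtain ⟨-, h2⟩ := LinearIndependent.pair_iff.1 hli c (-1) (by simp [hc])
      exact one_ne_zero (neg_eq_zero.1 h2)
  exact ⟨a, fun v => by simpa using LinearMap.congr_fun ha v⟩

theorem sq_eq_one_of_smul (hA : B.IsAlt) (hB : B.Nondegenerate) [Nontrivial V] {g : Sp B} {a : F}
    (ha : ∀ v, (g : V ≃ₗ[F] V) v = a • v) : a ^ 2 = 1 := by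
  obtain ⟨u, hu⟩ := exists_ne (0 : V)
  obtain ⟨v, -, huv⟩ := exists_partner (nondeg_top hB) (Submodule.mem_top (x := u)) hu
  have h : B ((g : V ≃ₗ[F] V) u) ((g : V ≃ₗ[F] V) v) = B u v := g.2 u v
  simp [ha, huv] at h
  rw [pow_two, h]

theorem apply_mem_span_of_mem_center (hA : B.IsAlt) (hB : B.Nondegenerate) {g : Sp B}
    (hg : g ∈ Subgroup.center (Sp B)) (v : V) : ∃ c : F, (g : V ≃ₗ[F] V) v = c • v := by
  by_cases hv : v = 0
  · exact ⟨0, by simp [hv]⟩
  have h := conj_tr hA g v 1
  rw [← Subgroup.mem_center_iff.1 hg (tr hA v 1), mul_inv_cancel_right] at h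
  have hgv : (g : V ≃ₗ[F] V) v ≠ 0 := by simpa using hv
  obtain ⟨x, -, hx⟩ := exists_partner (nondeg_top hB) (Submodule.mem_top (x := (g : V ≃ₗ[F] V) v))
    hgv
  have hx' : B x ((g : V ≃ₗ[F] V) v) = -1 := by rw [swap hA ((g : V ≃ₗ[F] V) v) x, hx]
  have h2 := congrArg (fun t : Sp B => (t : V ≃ₗ[F] V) x) h
  simp only [tr_apply, hx', one_mul, neg_smul, one_smul, add_right_inj] at h2
  exact ⟨-B x v, by rw [neg_smul, h2, neg_neg]⟩

theorem mem_center_iff_smul (hA : B.IsAlt) (hB : B.Nondegenerate) {g : Sp B} :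
    g ∈ Subgroup.center (Sp B) ↔ ∃ a : F, ∀ v, (g : V ≃ₗ[F] V) v = a • v := by
  constructor
  · exact fun hg => exists_smul_of_forall_mem_span _ (apply_mem_span_of_mem_center hA hB hg)
  · rintro ⟨a, ha⟩
    refine Subgroup.mem_center_iff.2 fun h => ?_
    ext x
    simp [ha]

/-- The scalar isometry given by a square root of one. -/
def scalar (B : BilinForm F V) (a : rootsOfUnity 2 F) : Sp B :=
  ⟨LinearEquiv.smulOfUnit (a : Fˣ), fun u v => by
    have h : ((a : Fˣ) : F) * ((a : Fˣ) : F) = 1 := by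
      rw [← pow_two, ← Units.val_pow_eq_pow_val, (mem_rootsOfUnity 2 _).1 a.2, Units.val_one]
    show B (((a : Fˣ) : F) • u) (((a : Fˣ) : F) • v) = B u v
    simp [← mul_assoc, h]⟩

theorem scalar_apply (a : rootsOfUnity 2 F) (v : V) :
    (scalar B a : V ≃ₗ[F] V) v = ((a : Fˣ) : F) • v := rfl

theorem card_center_Sp (hA : B.IsAlt) (hB : B.Nondegenerate) [Nontrivial V] :
    Nat.card (Subgroup.center (Sp B)) = Nat.card (rootsOfUnity 2 F) := by
  refine (Nat.card_congr (Equiv.ofBijective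
    (fun a => (⟨scalar B a, (mem_center_iff_smul hA hB).2 ⟨_, scalar_apply a⟩⟩ :
      Subgroup.center (Sp B))) ⟨fun a b hab => ?_, fun g => ?_⟩)).symm
  · obtain ⟨u, hu⟩ := exists_ne (0 : V)
    have h := congrArg (fun z : Subgroup.center (Sp B) => ((z : Sp B) : V ≃ₗ[F] V) u) hab
    simp only [scalar_apply] at h
    exact Subtype.ext (Units.ext (smul_left_injective F hu h))
  · obtain ⟨a, ha⟩ := (mem_center_iff_smul hA hB).1 g.2
    have h2 : a ^ 2 = 1 := sq_eq_one_of_smul hA hB ha
    have ha0 : a ≠ 0 := fun h => by simp [h] at h2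
    refine ⟨⟨Units.mk0 a ha0, (mem_rootsOfUnity 2 _).2 (Units.ext h2)⟩,
      Subtype.ext (Subtype.ext (LinearEquiv.ext fun v => ?_))⟩
    rw [scalar_apply, ha v]
    rfl

/-! ### Moving vectors orthogonal to a fixed one -/

theorem exists_perp_apply_ne_zero [FiniteDimensional F V] (hA : B.IsAlt) (hB : B.Nondegenerate)
    {u r : V} (hr : r ∉ Submodule.span F {u}) : ∃ z, B u z = 0 ∧ B r z ≠ 0 := by
  by_contra h
  push Not at h
  apply hr
  rw [← LinearMap.BilinForm.orthogonal_orthogonal hB hA.isRefl (Submodule.span F {u}),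
    mem_orthogonal]
  intro w hw
  rw [swap hA r w, h w (mem_orthogonal.1 hw u (Submodule.mem_span_singleton_self u)), neg_zero]

theorem exists_fix_map [FiniteDimensional F V] (hA : B.IsAlt) (hB : B.Nondegenerate)
    {u r r' : V} (h1 : B u r = 0) (h1' : B u r' = 0) (hr : r ∉ Submodule.span F {u})
    (hr' : r' ∉ Submodule.span F {u}) :
    ∃ g : Sp B, (g : V ≃ₗ[F] V) u = u ∧ (g : V ≃ₗ[F] V) r = r' := by
  by_cases hne : B r r' = 0
  · obtain ⟨z, hz, hz1, hz2⟩ : ∃ z, B u z = 0 ∧ B r z ≠ 0 ∧ B r' z ≠ 0 := by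
      obtain ⟨z, hzm, hz1, hz2⟩ := exists_apply_ne_zero_both (B := B)
        (U := LinearMap.ker (B u)) (u := r) (w := r')
        (by obtain ⟨a, ha, h⟩ := exists_perp_apply_ne_zero hA hB hr; exact ⟨a, ha, h⟩)
        (by obtain ⟨a, ha, h⟩ := exists_perp_apply_ne_zero hA hB hr'; exact ⟨a, ha, h⟩)
      exact ⟨z, hzm, hz1, hz2⟩
    obtain ⟨s₁, -, e1, e1'⟩ := exists_tr_fixing (U := ⊤) hA (Submodule.mem_top (x := r))
      (Submodule.mem_top (x := z)) (u := u) (by rw [h1, hz]) hz1
    obtain ⟨s₂, -, e2, e2'⟩ := exists_tr_fixing (U := ⊤) hA (Submodule.mem_top (x := z))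
      (Submodule.mem_top (x := r')) (u := u) (by rw [hz, h1'])
      (by rwa [swap hA r' z, neg_ne_zero])
    exact ⟨s₂ * s₁, by simp [e1, e2], by simp [e1', e2']⟩
  · obtain ⟨s, -, e, e'⟩ := exists_tr_fixing (U := ⊤) hA (Submodule.mem_top (x := r))
      (Submodule.mem_top (x := r')) (u := u) (by rw [h1, h1']) hne
    exact ⟨s, e, e'⟩

theorem exists_perp_notMem [FiniteDimensional F V] (hA : B.IsAlt) (hB : B.Nondegenerate)
    (S : Submodule F V) (hdim : 2 * Module.finrank F S < Module.finrank F V) :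
    ∃ z, (∀ s ∈ S, B s z = 0) ∧ z ∉ S := by
  by_contra h
  push Not at h
  have hle : B.orthogonal S ≤ S := fun z hz => h z (mem_orthogonal.1 hz)
  have h1 := Submodule.finrank_mono hle
  rw [LinearMap.BilinForm.finrank_orthogonal hB S] at h1
  omega

/-! ### Perfectness -/

/-- The Siegel element `x ↦ x + c B(x, u) w + c B(x, w) u` for orthogonal vectors `u`, `w`. -/
def mtr (hA : B.IsAlt) (u w : V) (c : F) : Sp B :=
  tr hA (u + w) c * tr hA u (-c) * tr hA w (-c)

theorem mtr_apply (hA : B.IsAlt) {u w : V} (h : B u w = 0) (c : F) (x : V) :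
    (mtr hA u w c : V ≃ₗ[F] V) x = x + (c * B x u) • w + (c * B x w) • u := by
  have h' : B w u = 0 := by rw [swap hA u w, h, neg_zero]
  simp only [mtr, Subgroup.coe_mul, LinearEquiv.mul_apply, tr_apply, map_add, LinearMap.map_smul,
    LinearMap.add_apply, LinearMap.smul_apply, smul_eq_mul, hA u, hA w, h, h', mul_zero, add_zero]
  module

theorem mtr_mul (hA : B.IsAlt) {u z w : V} (hz : B u z = 0) (hw : B u w = 0) (hzw : B z w = 0)
    (c : F) : mtr hA u z c * mtr hA u w c = mtr hA u (z + w) c := by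
  have hwz : B w z = 0 := by rw [swap hA z w, hzw, neg_zero]
  have hwu : B w u = 0 := by rw [swap hA u w, hw, neg_zero]
  ext x
  simp only [Subgroup.coe_mul, LinearEquiv.mul_apply, mtr_apply hA hz, mtr_apply hA hw,
    mtr_apply hA (show B u (z + w) = 0 by simp [hz, hw]), map_add, LinearMap.map_smul,
    LinearMap.add_apply, LinearMap.smul_apply, smul_eq_mul, hA u, hz, hwz, hwu]
  module

theorem conj_mtr (hA : B.IsAlt) (g : Sp B) (u w : V) (c : F) :
    g * mtr hA u w c * g⁻¹ = mtr hA ((g : V ≃ₗ[F] V) u) ((g : V ≃ₗ[F] V) w) c := by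
  simp only [mtr, ← map_add, ← conj_tr hA g]
  group

theorem mtr_self (hA : B.IsAlt) (u : V) (c : F) : mtr hA u u c = tr hA u (2 * c) := by
  ext x
  rw [mtr_apply hA (hA u), tr_apply]
  module

theorem mtr_mem_commutator [FiniteDimensional F V] (hA : B.IsAlt) (hB : B.Nondegenerate)
    {u z w : V} (hz : B u z = 0) (hw : B u w = 0) (hzw : B z w = 0)
    (h1 : z ∉ Submodule.span F {u}) (h2 : z + w ∉ Submodule.span F {u}) (c : F) :
    mtr hA u w c ∈ commutator (Sp B) := by
  obtain ⟨g, hgu, hgz⟩ := exists_fix_map hA hB hz (show B u (z + w) = 0 by simp [hz, hw]) h1 h2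
  have key : ⁅g, mtr hA u z c⁆ = mtr hA u z c * mtr hA u w c * (mtr hA u z c)⁻¹ := by
    rw [mtr_mul hA hz hw hzw, commutatorElement_def, conj_mtr, hgu, hgz]
  have hmem : ⁅g, mtr hA u z c⁆ ∈ commutator (Sp B) :=
    Subgroup.commutator_mem_commutator (Subgroup.mem_top _) (Subgroup.mem_top _)
  rw [key] at hmem
  simpa [mul_assoc] using (inferInstance : (commutator (Sp B)).Normal).conj_mem _ hmem
    (mtr hA u z c)⁻¹

theorem commutator_eq_top [FiniteDimensional F V] (hA : B.IsAlt) (hB : B.Nondegenerate)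
    (h : (4 ≤ Module.finrank F V ∧ (2 : F) ≠ 0) ∨ 6 ≤ Module.finrank F V ∨
      ∃ a : F, a ≠ 0 ∧ a ^ 2 ≠ 1) :
    commutator (Sp B) = ⊤ := by
  rw [eq_top_iff, ← trGroup_eq_top hA hB, trGroup, Subgroup.closure_le]
  rintro _ ⟨u, -, c, rfl⟩
  by_cases hu : u = 0
  · have : tr hA u c = 1 := by ext x; simp [tr_apply, hu]
    rw [this]
    exact one_mem _
  have hspan : Module.finrank F (Submodule.span F {u}) = 1 := finrank_span_singleton hu
  rcases h with ⟨h4, h2⟩ | h6 | ⟨a, ha, ha2⟩
  · obtain ⟨w, hw, hwn⟩ := exists_perp_notMem hA hB (Submodule.span F {u}) (by omega)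
    have huw : B u w = 0 := hw u (Submodule.mem_span_singleton_self u)
    have hwu : B w u = 0 := by rw [swap hA u w, huw, neg_zero]
    have hwu' : w + u ∉ Submodule.span F {u} := fun hc =>
      hwn (by simpa using Submodule.sub_mem _ hc (Submodule.mem_span_singleton_self u))
    have := mtr_mem_commutator hA hB huw (hA u) hwu hwn hwu' (c / 2)
    rwa [mtr_self, mul_div_cancel₀ _ h2] at this
  · obtain ⟨w, hw, hwn⟩ := exists_perp_notMem hA hB (Submodule.span F {u}) (by omega)
    have huw : B u w = 0 := hw u (Submodule.mem_span_singleton_self u)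
    have hS : Module.finrank F (Submodule.span F ({u, w} : Set V)) ≤ 2 := by
      classical
      refine le_trans (finrank_span_le_card _) ?_
      simp only [Set.toFinset_insert, Set.toFinset_singleton]
      exact Finset.card_le_two
    obtain ⟨z, hz, hzn⟩ := exists_perp_notMem hA hB (Submodule.span F ({u, w} : Set V)) (by omega)
    have huz : B u z = 0 := hz u (Submodule.subset_span (Set.mem_insert u _))
    have hzw : B z w = 0 := by
      rw [swap hA w z, hz w (Submodule.subset_span (Set.mem_insert_of_mem u rfl)), neg_zero]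
    have hmono : Submodule.span F {u} ≤ Submodule.span F ({u, w} : Set V) :=
      Submodule.span_mono (by simp)
    have hM : mtr hA u w c ∈ commutator (Sp B) :=
      mtr_mem_commutator hA hB huz huw hzw (fun h => hzn (hmono h)) (fun h => hzn (by
        simpa using Submodule.sub_mem _ (hmono h)
          (Submodule.subset_span (Set.mem_insert_of_mem u rfl)))) c
    have hw0 : w ≠ 0 := fun h => hwn (by simp [h])
    have hwu0 : w + u ≠ 0 := fun h => hwn (by
      rw [eq_neg_of_add_eq_zero_left h]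
      exact Submodule.neg_mem _ (Submodule.mem_span_singleton_self u))
    obtain ⟨g, -, hg⟩ := sp_transitive_ne_zero hA hB hw0 hwu0
    have hC : tr hA (u + w) c * (tr hA w c)⁻¹ ∈ commutator (Sp B) := by
      have hmem : ⁅g, tr hA w c⁆ ∈ commutator (Sp B) :=
        Subgroup.commutator_mem_commutator (Subgroup.mem_top _) (Subgroup.mem_top _)
      rwa [commutatorElement_def, conj_tr, hg, add_comm w] at hmem
    have key : tr hA u c =
        tr hA (u + w) c * (tr hA w c)⁻¹ * (mtr hA u w c)⁻¹ := by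
      simp only [mtr, mul_inv_rev, tr_inv, neg_neg]
      rw [mul_assoc, ← mul_assoc (tr hA w (-c)), tr_mul, neg_add_cancel, tr_zero, one_mul]
      have hcomm : tr hA (u + w) c * tr hA u c = tr hA u c * tr hA (u + w) c := by
        have hfix : (tr hA (u + w) c : V ≃ₗ[F] V) u = u :=
          tr_fix hA c (by simp [hA u, huw])
        calc tr hA (u + w) c * tr hA u c
            = tr hA (u + w) c * tr hA u c * (tr hA (u + w) c)⁻¹ * tr hA (u + w) c := by group
          _ = tr hA u c * tr hA (u + w) c := by rw [conj_tr, hfix]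
      rw [← mul_assoc, hcomm, mul_assoc, tr_mul, add_neg_cancel, tr_zero, mul_one]
    rw [key]
    exact mul_mem hC (inv_mem hM)
  · obtain ⟨g, -, hg⟩ := sp_transitive_ne_zero hA hB hu (smul_ne_zero ha hu)
    have hd : a ^ 2 - 1 ≠ 0 := sub_ne_zero.2 ha2
    have hmem : ⁅g, tr hA u (c / (a ^ 2 - 1))⁆ ∈ commutator (Sp B) :=
      Subgroup.commutator_mem_commutator (Subgroup.mem_top _) (Subgroup.mem_top _)
    rw [commutatorElement_def, conj_tr, hg, tr_smul_vec, tr_inv, tr_mul] at hmem
    have e : a ^ 2 * (c / (a ^ 2 - 1)) + -(c / (a ^ 2 - 1)) = c := by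
      rw [← sub_eq_add_neg, ← sub_one_mul, mul_div_cancel₀ _ hd]
    rwa [e] at hmem

/-! ### Action on points and simplicity -/

theorem mk_mem_of_stab {Δ : Set (ℙ F V)} (hΔ : MulAction.IsBlock (Sp B) Δ) {p r : ℙ F V}
    (hp : p ∈ Δ) (hr : r ∈ Δ) (g : Sp B) (hgp : g • p = p) : g • r ∈ Δ := by
  have hgΔ : g • Δ = Δ := hΔ.smul_eq_of_mem hp (by rwa [hgp])
  rw [← hgΔ]
  exact Set.smul_mem_smul_set hr

theorem mk_smul_eq {g : Sp B} {u v : V} (hu : u ≠ 0) (hv : v ≠ 0)
    (h : (g : V ≃ₗ[F] V) u = v) :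
    g • Projectivization.mk F u hu = Projectivization.mk F v hv := by
  have hgu : (g : V ≃ₗ[F] V) u ≠ 0 := by rw [h]; exact hv
  show Projectivization.mk F ((g : V ≃ₗ[F] V) u) hgu = Projectivization.mk F v hv
  exact (Projectivization.mk_eq_mk_iff' F _ _ _ _).2 ⟨1, by rw [one_smul]; exact h.symm⟩

theorem isPreprimitive [FiniteDimensional F V] (hA : B.IsAlt) (hB : B.Nondegenerate) :
    MulAction.IsPreprimitive (Sp B) (ℙ F V) := by
  have hpre : MulAction.IsPretransitive (Sp B) (ℙ F V) := ⟨fun p r => by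
    induction p using Projectivization.ind with | _ u hu =>
    induction r using Projectivization.ind with | _ w hw =>
    obtain ⟨t, -, ht⟩ := sp_transitive_ne_zero hA hB hu hw
    exact ⟨t, mk_smul_eq hu hw ht⟩⟩
  refine { hpre with isTrivialBlock_of_isBlock := fun {Δ} hΔ => ?_ }
  by_cases hsub : Δ.Subsingleton
  · exact Or.inl hsub
  refine Or.inr (Set.eq_univ_iff_forall.2 fun x => ?_)
  obtain ⟨p, hp, r, hr, hpr⟩ := Set.not_subsingleton_iff.1 hsub
  -- if the block contains a point not orthogonal to one of its points, it contains all of them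
  have stepA : ∀ (u w w' : V) (hu : u ≠ 0) (hw : w ≠ 0) (hw' : w' ≠ 0),
      Projectivization.mk F u hu ∈ Δ → Projectivization.mk F w hw ∈ Δ → B u w ≠ 0 → B u w' ≠ 0 →
      Projectivization.mk F w' hw' ∈ Δ := by
    intro u w w' hu hw hw' hpu hpw h h'
    obtain ⟨t, -, t1, t2⟩ := sp_transitive_hyperbolic hA hB (u := u) (v := (B u w)⁻¹ • w)
      (u' := u) (v' := (B u w')⁻¹ • w') (by simp [h]) (by simp [h'])
    have hw1 : (B u w)⁻¹ • w ≠ 0 := smul_ne_zero (inv_ne_zero h) hw
    have hw1' : (B u w')⁻¹ • w' ≠ 0 := smul_ne_zero (inv_ne_zero h') hw'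
    have e : ∀ (y : V) (hy : y ≠ 0) (a : F) (hay : a • y ≠ 0),
        Projectivization.mk F (a • y) hay = Projectivization.mk F y hy := fun y hy a hay =>
      (Projectivization.mk_eq_mk_iff' F _ _ _ _).2 ⟨a, rfl⟩
    rw [← e w hw _ hw1] at hpw
    rw [← e w' hw' _ hw1', ← mk_smul_eq hw1 hw1' t2]
    exact mk_mem_of_stab hΔ hpu hpw t (mk_smul_eq hu hu t1)
  -- finish from a non-orthogonal pair
  have finish : ∀ (u w : V) (hu : u ≠ 0) (hw : w ≠ 0),
      Projectivization.mk F u hu ∈ Δ → Projectivization.mk F w hw ∈ Δ → B u w ≠ 0 → x ∈ Δ := by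
    intro u w hu hw hpu hpw h
    induction x using Projectivization.ind with | _ y hy =>
    by_cases hy' : B u y = 0
    · obtain ⟨z, -, hz1, hz2⟩ := exists_apply_ne_zero_both (B := B) (U := ⊤) (u := u) (w := y)
        (by obtain ⟨a, -, ha⟩ := exists_partner (nondeg_top hB) (Submodule.mem_top (x := u)) hu
            exact ⟨a, trivial, by simp [ha]⟩)
        (by obtain ⟨a, -, ha⟩ := exists_partner (nondeg_top hB) (Submodule.mem_top (x := y)) hy
            exact ⟨a, trivial, by simp [ha]⟩)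
      have hz0 : z ≠ 0 := fun h => by simp [h] at hz1
      have hpz := stepA u w z hu hw hz0 hpu hpw h hz1
      exact stepA z u y hz0 hu hy hpz hpu (by rwa [swap hA u z, neg_ne_zero])
        (by rwa [swap hA y z, neg_ne_zero])
    · exact stepA u w y hu hw hy hpu hpw h hy'
  induction p using Projectivization.ind with | _ u hu =>
  induction r using Projectivization.ind with | _ w hw =>
  by_cases huw : B u w = 0
  · -- an orthogonal pair: some point orthogonal to `w` is not orthogonal to `u`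
    have hw1 : w ∉ Submodule.span F {u} := fun hc => by
      obtain ⟨a, ha⟩ := Submodule.mem_span_singleton.1 hc
      exact hpr ((Projectivization.mk_eq_mk_iff' F _ _ _ _).2 ⟨a⁻¹, by
        rw [← ha, inv_smul_smul₀]; rintro rfl; exact hw (by simpa using ha.symm)⟩)
    have hu1 : u ∉ Submodule.span F {w} := fun hc => by
      obtain ⟨a, ha⟩ := Submodule.mem_span_singleton.1 hc
      exact hpr ((Projectivization.mk_eq_mk_iff' F _ _ _ _).2 ⟨a, ha⟩)
    obtain ⟨z, hz, hzu⟩ := exists_perp_apply_ne_zero hA hB hu1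
    have hz1 : z ∉ Submodule.span F {w} := fun hc => by
      obtain ⟨a, ha⟩ := Submodule.mem_span_singleton.1 hc
      exact hzu (by rw [← ha]; simp [huw])
    have hwu : B w u = 0 := by rw [swap hA u w, huw, neg_zero]
    have hz0 : z ≠ 0 := fun h => by simp [h] at hzu
    obtain ⟨g, g1, g2⟩ := exists_fix_map hA hB hwu hz hu1 hz1
    have hpz : Projectivization.mk F z hz0 ∈ Δ := by
      rw [← mk_smul_eq hu hz0 g2]
      exact mk_mem_of_stab hΔ hr hp g (mk_smul_eq hw hw g1)
    exact finish u z hu hz0 hp hpz hzu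
  · exact finish u w hu hw hp hr huw

/-- The transvection group attached to a point. -/
def trSubgroup (hA : B.IsAlt) (v : V) : Subgroup (Sp B) where
  carrier := {g | ∃ c : F, g = tr hA v c}
  mul_mem' := by
    rintro _ _ ⟨a, rfl⟩ ⟨b, rfl⟩
    exact ⟨a + b, tr_mul hA v a b⟩
  one_mem' := ⟨0, (tr_zero hA v).symm⟩
  inv_mem' := by
    rintro _ ⟨a, rfl⟩
    exact ⟨-a, tr_inv hA v a⟩

theorem trSubgroup_smul (hA : B.IsAlt) {a : F} (ha : a ≠ 0) (v : V) :
    trSubgroup hA (a • v) = trSubgroup hA v := by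
  ext g
  constructor
  · rintro ⟨c, rfl⟩
    exact ⟨a ^ 2 * c, tr_smul_vec hA a v c⟩
  · rintro ⟨c, rfl⟩
    exact ⟨c / a ^ 2, by rw [tr_smul_vec, mul_div_cancel₀ _ (pow_ne_zero 2 ha)]⟩

theorem isSimpleGroup_PSp [FiniteDimensional F V] [Nontrivial V] (hA : B.IsAlt)
    (hB : B.Nondegenerate) (hperf : commutator (Sp B) = ⊤) :
    IsSimpleGroup (Sp B ⧸ Subgroup.center (Sp B)) := by
  have := isPreprimitive hA hB
  have hconj : ∀ (g : Sp B) (p : ℙ F V),
      trSubgroup hA (g • p).rep = MulAut.conj g • trSubgroup hA p.rep := by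
    intro g p
    have hv : (g : V ≃ₗ[F] V) p.rep ≠ 0 := by simpa using p.rep_nonzero
    have hgp : g • p = Projectivization.mk F ((g : V ≃ₗ[F] V) p.rep) hv := by
      conv_lhs => rw [← p.mk_rep]
      exact mk_smul_eq _ hv rfl
    obtain ⟨a, ha⟩ := Projectivization.exists_smul_eq_mk_rep F ((g : V ≃ₗ[F] V) p.rep) hv
    rw [← hgp] at ha
    rw [← ha, Units.smul_def, trSubgroup_smul hA a.ne_zero]
    ext h
    rw [Subgroup.mem_pointwise_smul_iff_inv_smul_mem, MulAut.smul_def, MulAut.inv_apply,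
      MulAut.conj_symm_apply]
    constructor
    · rintro ⟨c, rfl⟩
      exact ⟨c, by rw [← conj_tr hA g]; group⟩
    · rintro ⟨c, hc⟩
      exact ⟨c, by rw [← conj_tr hA g, ← hc]; group⟩
  let I : MulAction.IwasawaStructure (Sp B) (ℙ F V) :=
    { T := fun p => trSubgroup hA p.rep
      is_comm := fun p => ⟨⟨by
        rintro ⟨_, a, rfl⟩ ⟨_, b, rfl⟩
        apply Subtype.ext
        simp [tr_mul, add_comm]⟩⟩
      is_conj := hconj
      is_generator := by
        rw [eq_top_iff, ← trGroup_eq_top hA hB, trGroup, Subgroup.closure_le]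
        rintro _ ⟨v, -, c, rfl⟩
        by_cases hv : v = 0
        · have : tr hA v c = 1 := by ext x; simp [tr_apply, hv]
          rw [this]
          exact one_mem _
        obtain ⟨a, ha⟩ := Projectivization.exists_smul_eq_mk_rep F v hv
        refine Subgroup.mem_iSup_of_mem (Projectivization.mk F v hv) ?_
        rw [← ha, Units.smul_def, trSubgroup_smul hA a.ne_zero]
        exact ⟨c, rfl⟩ }
  refine isSimpleGroup_quotient_center_of_iwasawa I hperf ?_ ?_
  · obtain ⟨u, hu⟩ := exists_ne (0 : V)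
    obtain ⟨v, -, huv⟩ := exists_partner (nondeg_top hB) (Submodule.mem_top (x := u)) hu
    refine ⟨tr hA u 1, fun h => ?_⟩
    obtain ⟨c, hc⟩ := apply_mem_span_of_mem_center hA hB h v
    rw [tr_apply] at hc
    have h2 := congrArg (B v) hc
    simp [hA v, swap hA u v, huv] at h2
  · intro g hg
    refine (mem_center_iff_smul hA hB).2 (exists_smul_of_forall_mem_span _ fun v => ?_)
    by_cases hv : v = 0
    · exact ⟨0, by simp [hv]⟩
    have h := hg (Projectivization.mk F v hv)
    have hgv : (g : V ≃ₗ[F] V) v ≠ 0 := by simpa using hv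
    obtain ⟨a, ha⟩ := (Projectivization.mk_eq_mk_iff' F _ _ hgv hv).1 h
    exact ⟨a, ha.symm⟩

end CfsgLib.Classical.Symp
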