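import Cfsg.Agent.Lib.Classical.Symplectic.Basic

/-!
The order of the symplectic group over a finite field.
-/

set_option autoImplicit false

namespace CfsgLib.Classical.Symp

open LinearMap (BilinForm)

variable {F : Type*} [Field F] {V : Type*} [AddCommGroup V] [Module F V]

theorem card_fibre_linear [Finite F] [FiniteDimensional F V] (φ : V →ₗ[F] F) (hφ : φ ≠ 0) (a : F) :
    Nat.card {x : V // φ x = a} = Nat.card F ^ (Module.finrank F V - 1) := by
  obtain ⟨x₀, hx₀⟩ := (φ.range_eq_top.1 (Module.Dual.range_eq_top_of_ne_zero hφ)) a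
  have hcard : Nat.card {x : V // φ x = a} = Nat.card (LinearMap.ker φ) :=
    Nat.card_congr
      { toFun := fun x => ⟨(x : V) - x₀, by simp [LinearMap.mem_ker, map_sub, x.2, hx₀]⟩
        invFun := fun k => ⟨(k : V) + x₀, by simp [map_add, LinearMap.mem_ker.1 k.2, hx₀]⟩
        left_inv := fun x => by simp
        right_inv := fun k => by simp }
  rw [hcard, Module.natCard_eq_pow_finrank (K := F)]
  congr 1
  have h1 := φ.finrank_range_add_finrank_ker
  rw [Module.Dual.range_eq_top_of_ne_zero hφ, finrank_top, Module.finrank_self] at h1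
  omega

theorem natCard_ne_zero_eq [Finite F] [FiniteDimensional F V] :
    Nat.card {x : V // x ≠ 0} = Nat.card F ^ Module.finrank F V - 1 := by
  have : Finite V := Module.finite_of_finite F
  classical
  have h := Nat.card_congr (Equiv.sumCompl (fun x : V => x = 0))
  rw [Nat.card_sum, Module.natCard_eq_pow_finrank (K := F) (V := V)] at h
  have h1 : Nat.card {x : V // x = 0} = 1 := by simp
  change Nat.card {x : V // ¬ x = 0} = _
  omega

variable {B : BilinForm F V}

theorem card_hyperbolic [Finite F] [FiniteDimensional F V] (hB : B.Nondegenerate) :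
    Nat.card {p : V × V // B p.1 p.2 = 1} =
      (Nat.card F ^ Module.finrank F V - 1) * Nat.card F ^ (Module.finrank F V - 1) := by
  have : Finite V := Module.finite_of_finite F
  have : Fintype V := Fintype.ofFinite V
  have : Fintype {x : V // x ≠ 0} := Fintype.ofFinite _
  have e : {p : V × V // B p.1 p.2 = 1} ≃ Σ u : {x : V // x ≠ 0}, {v : V // B u v = 1} :=
    { toFun := fun p => ⟨⟨p.1.1, ne_zero_of_apply_ne_zero (B := B) (v := p.1.2)
        (by rw [p.2]; exact one_ne_zero)⟩, ⟨p.1.2, p.2⟩⟩
      invFun := fun s => ⟨((s.1 : V), (s.2 : V)), s.2.2⟩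
      left_inv := fun _ => rfl
      right_inv := fun _ => rfl }
  have hfib : ∀ u : {x : V // x ≠ 0}, Nat.card {v : V // B (u : V) v = 1} =
      Nat.card F ^ (Module.finrank F V - 1) := fun u =>
    card_fibre_linear (B (u : V)) (fun h => u.2 (hB.1 _ fun y => by rw [h]; rfl)) 1
  rw [Nat.card_congr e, Nat.card_sigma, Finset.sum_congr rfl fun u _ => hfib u,
    Finset.sum_const, Finset.card_univ, smul_eq_mul, Fintype.card_eq_nat_card,
    natCard_ne_zero_eq (F := F)]

theorem restrict_isAlt (hA : B.IsAlt) (W : Submodule F V) : (B.restrict W).IsAlt :=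
  fun x => hA (x : V)

theorem restrict_nondegenerate (hA : B.IsAlt) {W : Submodule F V}
    (hW : ∀ x ∈ W, (∀ y ∈ W, B x y = 0) → x = 0) : (B.restrict W).Nondegenerate :=
  ⟨fun x h => Subtype.ext (hW x x.2 fun y hy => h ⟨y, hy⟩),
    fun x h => Subtype.ext (hW x x.2 fun y hy => by
      rw [swap hA y x]; exact neg_eq_zero.2 (h ⟨y, hy⟩))⟩

theorem add_add_apply (hA : B.IsAlt) (W : Submodule F V) (w w' : W) (u u' : B.orthogonal W) :
    B ((w : V) + u) ((w' : V) + u') = B w w' + B u u' := by
  have h1 : B w u' = 0 := mem_orthogonal.1 u'.2 w w.2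
  have h2 : B u w' = 0 := by rw [swap hA w' u, mem_orthogonal.1 u.2 w' w'.2, neg_zero]
  simp [h1, h2]

theorem orthogonal_preserved (W : Submodule F V) :
    ∀ g ∈ Sp B, (∀ x, x ∈ W ↔ g x ∈ W) → ∀ u ∈ B.orthogonal W, g u ∈ B.orthogonal W := by
  intro g hg hgW u hu
  rw [mem_orthogonal] at hu ⊢
  intro w hw
  have h := hg (g.symm w) u
  simp only [LinearEquiv.apply_symm_apply] at h
  rw [h]
  exact hu _ ((hgW _).2 (by simpa using hw))

theorem linearIndependent_pair_of_one (hA : B.IsAlt) {u v : V} (h : B u v = 1) :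
    LinearIndependent F ![u, v] := by
  rw [LinearIndependent.pair_iff]
  intro a b hab
  have h1 := congrArg (B u) hab
  have h2 := congrArg (fun x => B x v) hab
  simp [hA u, h] at h1
  simp [hA v, h] at h2
  exact ⟨h2, h1⟩

theorem nondeg_pair (hA : B.IsAlt) {u v : V} (h : B u v = 1) :
    ∀ x ∈ Submodule.span F {u, v}, (∀ y ∈ Submodule.span F {u, v}, B x y = 0) → x = 0 := by
  intro x hx hrad
  have hbot : ∀ z : V, z ∈ B.orthogonal (⊥ : Submodule F V) := fun z => by simp
  have := nondeg_sup_pair hA (W := (⊥ : Submodule F V)) (by simp) (hbot u) (hbot v) h x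
    (by simpa using hx) (fun y hy => hrad y (by simpa using hy))
  exact this

theorem card_Sp [Finite F] [FiniteDimensional F V] (hA : B.IsAlt) (hB : B.Nondegenerate) (m : ℕ)
    (hm : Module.finrank F V = 2 * m) :
    Nat.card (Sp B) =
      Nat.card F ^ (m ^ 2) * ∏ i ∈ Finset.range m, (Nat.card F ^ (2 * (i + 1)) - 1) := by
  induction m generalizing V with
  | zero =>
    have : Subsingleton V := Module.finrank_zero_iff.1 (by simpa using hm)
    have : Subsingleton (V ≃ₗ[F] V) := ⟨fun a b => LinearEquiv.ext fun x => Subsingleton.elim _ _⟩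
    simp
  | succ m ih =>
    have : Finite V := Module.finite_of_finite F
    have : Finite (V ≃ₗ[F] V) := Finite.of_injective _ DFunLike.coe_injective
    have : Nontrivial V := Module.nontrivial_of_finrank_pos (R := F) (by omega)
    obtain ⟨u, hu⟩ := exists_ne (0 : V)
    obtain ⟨v, -, huv⟩ := exists_partner (nondeg_top hB) (Submodule.mem_top (x := u)) hu
    set W := Submodule.span F ({u, v} : Set V) with hW
    obtain ⟨hc, hUn⟩ := nondeg_orthogonal hA hB (nondeg_pair hA huv)
    have hrW : Module.finrank F W = 2 := by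
      have h := finrank_span_eq_card (linearIndependent_pair_of_one hA huv)
      rwa [Matrix.range_cons_cons_empty, Fintype.card_fin, ← hW] at h
    have hrU : Module.finrank F (B.orthogonal W) = 2 * m := by
      have h := Submodule.finrank_add_eq_of_isCompl hc
      rw [← hW, hrW] at h
      omega
    have hcard := ih (B := B.restrict (B.orthogonal W)) (restrict_isAlt hA _)
      (restrict_nondegenerate hA hUn) hrU
    have horb : MulAction.orbit (Sp B) ((u, v) : V × V) = {p : V × V | B p.1 p.2 = 1} := by
      ext p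
      constructor
      · rintro ⟨g, rfl⟩
        exact (g.2 u v).trans huv
      · intro hp
        obtain ⟨t, -, h1, h2⟩ := sp_transitive_hyperbolic hA hB huv hp
        exact ⟨t, Prod.ext h1 h2⟩
    have hstab : MulAction.stabilizer (Sp B) ((u, v) : V × V) =
        isoFix F (fun x y => B x y) (W : Set V) := by
      ext g
      rw [MulAction.mem_stabilizer_iff]
      constructor
      · intro h x hx
        obtain ⟨a, b, rfl⟩ := Submodule.mem_span_pair.1 hx
        have h1 : (g : V ≃ₗ[F] V) u = u := congrArg Prod.fst h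
        have h2 : (g : V ≃ₗ[F] V) v = v := congrArg Prod.snd h
        simp [h1, h2]
      · intro h
        exact Prod.ext (h u (Submodule.subset_span (Set.mem_insert u _)))
          (h v (Submodule.subset_span (Set.mem_insert_of_mem u rfl)))
    have key : Nat.card (MulAction.orbit (Sp B) ((u, v) : V × V)) *
        Nat.card (MulAction.stabilizer (Sp B) ((u, v) : V × V)) = Nat.card (Sp B) := by
      rw [← Nat.card_prod]
      exact Nat.card_congr (MulAction.orbitProdStabilizerEquivGroup _ _)
    rw [horb, hstab, Set.coe_ofPred, card_hyperbolic hB, hm,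
      ← Nat.card_congr (isoFixEquiv hc (add_add_apply hA W) (orthogonal_preserved W)).toEquiv] at key
    rw [← key, Finset.prod_range_succ]
    refine Eq.trans (congrArg _ hcard) ?_
    rw [show (m + 1) ^ 2 = m ^ 2 + (2 * (m + 1) - 1) by
      have : (m + 1) ^ 2 = m ^ 2 + 2 * m + 1 := by ring
      omega]
    ring

end CfsgLib.Classical.Symp
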