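import Cfsg.Agent.Lib.Classical.Symplectic.Matrix
import Cfsg.Agent.Lib.Classical.Symplectic.Structure

/-!
Perfectness, centre and simplicity for Mathlib's symplectic group.
-/

set_option autoImplicit false

namespace CfsgLib.Classical.Symp

open scoped Matrix

variable {m : ℕ} {F : Type*} [Field F]

theorem exists_sq_ne_one_of_four_le [Fintype F] (h : 4 ≤ Fintype.card F) :
    ∃ a : F, a ≠ 0 ∧ a ^ 2 ≠ 1 := by
  classical
  by_contra hc
  push Not at hc
  have hsub : (Finset.univ : Finset F) ⊆ {0, 1, -1} := fun a _ => by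
    by_cases ha : a = 0
    · simp [ha]
    · rcases sq_eq_one_iff.1 (hc a ha) with h1 | h1 <;> simp [h1]
  have h3 := Finset.card_le_card hsub
  rw [Finset.card_univ] at h3
  have h4 : ({0, 1, -1} : Finset F).card ≤ 3 := Finset.card_le_three
  omega

theorem exists_sq_ne_one_or_two_ne_zero [Fintype F] (h : 3 ≤ Fintype.card F) :
    (2 : F) ≠ 0 ∨ ∃ a : F, a ≠ 0 ∧ a ^ 2 ≠ 1 := by
  by_cases h2 : (2 : F) = 0
  · right
    classical
    by_contra hc
    push Not at hc
    have hsub : (Finset.univ : Finset F) ⊆ {0, 1} := fun a _ => by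
      by_cases ha : a = 0
      · simp [ha]
      · rcases sq_eq_one_iff.1 (hc a ha) with h1 | h1
        · simp [h1]
        · have : a = 1 := by
            rw [h1]
            linear_combination (norm := ring_nf) (-1 : F) * h2
          simp [this]
    have h3 := Finset.card_le_card hsub
    rw [Finset.card_univ] at h3
    have h4 : ({0, 1} : Finset F).card ≤ 2 := Finset.card_le_two
    omega
  · exact Or.inl h2

theorem commutator_symplecticGroup_eq_top
    (h : (2 ≤ m ∧ (2 : F) ≠ 0) ∨ 3 ≤ m ∨ ∃ a : F, a ≠ 0 ∧ a ^ 2 ≠ 1) :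
    commutator (Matrix.symplecticGroup (Fin m) F) = ⊤ := by
  have hA := sympBil_isAlt m F
  have hB := sympBil_nondegenerate m F
  have h0 := commutator_eq_top hA hB (by
    rcases h with ⟨h1, h2⟩ | h1 | h1
    · exact Or.inl ⟨by rw [finrank_sympSpace]; omega, h2⟩
    · exact Or.inr (Or.inl (by rw [finrank_sympSpace]; omega))
    · exact Or.inr (Or.inr h1))
  have h2 : Group.IsPerfect (Sp (sympBil m F)) := ⟨h0⟩
  have h3 : Group.IsPerfect (Matrix.symplecticGroup (Fin m) F) :=
    Group.IsPerfect.ofSurjective (f := (symplecticEquiv m F).symm.toMonoidHom)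
      (symplecticEquiv m F).symm.surjective
  exact h3.commutator_eq_top

/-- `PSp` as the central quotient of the isometry group. -/
noncomputable def pspEquiv (m : ℕ) (F : Type*) [Field F] :
    Cfsg.PSp m F ≃* Sp (sympBil m F) ⧸ Subgroup.center (Sp (sympBil m F)) :=
  QuotientGroup.congr _ _ (symplecticEquiv m F) (by
    ext g
    simp only [Subgroup.mem_map, MulEquiv.coe_toMonoidHom]
    constructor
    · rintro ⟨x, hx, rfl⟩
      rw [Subgroup.mem_center_iff] at hx ⊢
      intro y
      obtain ⟨z, rfl⟩ := (symplecticEquiv m F).surjective y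
      show symplecticEquiv m F z * symplecticEquiv m F x = symplecticEquiv m F x * symplecticEquiv m F z
      rw [← map_mul, hx, map_mul]
    · intro hg
      refine ⟨(symplecticEquiv m F).symm g, ?_, by simp⟩
      rw [Subgroup.mem_center_iff] at hg ⊢
      intro y
      apply (symplecticEquiv m F).injective
      simp [hg (symplecticEquiv m F y)])

theorem nontrivial_sympSpace (hm : 1 ≤ m) : Nontrivial (Fin m ⊕ Fin m → F) :=
  Module.nontrivial_of_finrank_pos (R := F) (by rw [finrank_sympSpace]; omega)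

theorem isSimpleGroup_psp (hm : 1 ≤ m)
    (h : (2 ≤ m ∧ (2 : F) ≠ 0) ∨ 3 ≤ m ∨ ∃ a : F, a ≠ 0 ∧ a ^ 2 ≠ 1) :
    IsSimpleGroup (Cfsg.PSp m F) := by
  have := nontrivial_sympSpace (F := F) hm
  have hA := sympBil_isAlt m F
  have hB := sympBil_nondegenerate m F
  have hs := isSimpleGroup_PSp hA hB (commutator_eq_top hA hB (by
    rcases h with ⟨h1, h2⟩ | h1 | h1
    · exact Or.inl ⟨by rw [finrank_sympSpace]; omega, h2⟩
    · exact Or.inr (Or.inl (by rw [finrank_sympSpace]; omega))
    · exact Or.inr (Or.inr h1)))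
  exact (pspEquiv m F).isSimpleGroup

theorem card_center_symplecticGroup [Fintype F] (hm : 1 ≤ m) :
    Nat.card (Subgroup.center (Matrix.symplecticGroup (Fin m) F)) =
      Nat.gcd 2 (Fintype.card F - 1) := by
  have := nontrivial_sympSpace (F := F) hm
  rw [Nat.card_congr (Subgroup.centerCongr (symplecticEquiv m F)).toEquiv,
    card_center_Sp (sympBil_isAlt m F) (sympBil_nondegenerate m F), card_rootsOfUnity_field]

theorem gcd_mul_card_psp [Fintype F] (hm : 1 ≤ m) :
    Nat.gcd 2 (Fintype.card F - 1) * Nat.card (Cfsg.PSp m F) =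
      Fintype.card F ^ (m ^ 2) * ∏ i ∈ Finset.range m, (Fintype.card F ^ (2 * (i + 1)) - 1) := by
  rw [← card_symplecticGroup, Subgroup.card_eq_card_quotient_mul_card_subgroup
    (Subgroup.center (Matrix.symplecticGroup (Fin m) F)), card_center_symplecticGroup hm]
  exact mul_comm _ _

end CfsgLib.Classical.Symp
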