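import Cfsg.Agent.Lib.Classical.Symplectic.MatrixStructure

/-!
Transvection generation and the action on points, in matrix language.
-/

set_option autoImplicit false

namespace CfsgLib.Classical.Symp

open scoped Matrix LinearAlgebra.Projectivization

variable {m : ℕ} {F : Type*} [Field F]

/-- The subgroup of the symplectic group generated by the transvection matrices. -/
theorem map_trGroup_top :
    (trGroup (sympBil_isAlt m F) (⊤ : Submodule F (Fin m ⊕ Fin m → F))).map
        (symplecticEquiv m F).symm.toMonoidHom =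
      Subgroup.closure {A : Matrix.symplecticGroup (Fin m) F |
        ∃ (w : Fin m ⊕ Fin m → F) (c : F),
          (A : Matrix (Fin m ⊕ Fin m) (Fin m ⊕ Fin m) F) = Cfsg.sympTransvection m w c} := by
  rw [trGroup, MonoidHom.map_closure]
  congr 1
  ext A
  constructor
  · rintro ⟨g, ⟨w, -, c, rfl⟩, rfl⟩
    exact ⟨w, c, symplecticEquiv_symm_tr w c⟩
  · rintro ⟨w, c, h⟩
    exact ⟨_, ⟨w, trivial, c, rfl⟩, Subtype.ext ((symplecticEquiv_symm_tr w c).trans h.symm)⟩

theorem closure_sympTransvection_eq_top :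
    Subgroup.closure {A : Matrix.symplecticGroup (Fin m) F |
      ∃ (w : Fin m ⊕ Fin m → F) (c : F),
        (A : Matrix (Fin m ⊕ Fin m) (Fin m ⊕ Fin m) F) = Cfsg.sympTransvection m w c} = ⊤ := by
  rw [← map_trGroup_top, trGroup_eq_top (sympBil_isAlt m F) (sympBil_nondegenerate m F)]
  exact Subgroup.map_top_of_surjective _ (symplecticEquiv m F).symm.surjective

theorem sympTransvection_mul (v : Fin m ⊕ Fin m → F) (c d : F) :
    Cfsg.sympTransvection m v c * Cfsg.sympTransvection m v d =
      Cfsg.sympTransvection m v (c + d) := by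
  rw [← symplecticEquiv_symm_tr, ← symplecticEquiv_symm_tr, ← symplecticEquiv_symm_tr,
    ← tr_mul, map_mul]
  rfl

theorem conj_sympTransvection {A : Matrix (Fin m ⊕ Fin m) (Fin m ⊕ Fin m) F} {a : F}
    {v : Fin m ⊕ Fin m → F} (hA : A ∈ Matrix.symplecticGroup (Fin m) F) (h : A *ᵥ v = a • v)
    (c : F) :
    A * Cfsg.sympTransvection m v c * A⁻¹ = Cfsg.sympTransvection m v (a ^ 2 * c) := by
  have hg : (symplecticEquiv m F ⟨A, hA⟩ : (Fin m ⊕ Fin m → F) ≃ₗ[F] (Fin m ⊕ Fin m → F)) v = a • v :=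
    (symplecticEquiv_apply _ v).trans h
  have key := congrArg (symplecticEquiv m F).symm
    (conj_tr (sympBil_isAlt m F) (symplecticEquiv m F ⟨A, hA⟩) v c)
  rw [hg, tr_smul_vec, map_mul, map_mul, map_inv, MulEquiv.symm_apply_apply] at key
  have key2 := congrArg Subtype.val key
  simp only [Submonoid.coe_mul, SymplecticGroup.coe_inv', symplecticEquiv_symm_tr] at key2
  exact key2

/-- The isometry group as matrices in `Cfsg.spGL`. -/
noncomputable def spGLEquiv (m : ℕ) (F : Type*) [Field F] :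
    Sp (sympBil m F) ≃* Cfsg.spGL m F :=
  (symplecticEquiv m F).symm.trans (symplecticEquivSpGL m F)

theorem isPreprimitive_spGL :
    MulAction.IsPreprimitive (Cfsg.spGL m F) (ℙ F (Fin m ⊕ Fin m → F)) := by
  have := isPreprimitive (sympBil_isAlt m F) (sympBil_nondegenerate m F)
  let f : ℙ F (Fin m ⊕ Fin m → F) →ₑ[(spGLEquiv m F).toMonoidHom] ℙ F (Fin m ⊕ Fin m → F) :=
    { toFun := id
      map_smul' := fun g p => by
        induction p using Projectivization.ind with | _ u hu =>
        have hgu : (g : (Fin m ⊕ Fin m → F) ≃ₗ[F] (Fin m ⊕ Fin m → F)) u ≠ 0 := by simpa using hu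
        have hgu' : ((spGLEquiv m F g : Matrix.GeneralLinearGroup (Fin m ⊕ Fin m) F) :
            Matrix (Fin m ⊕ Fin m) (Fin m ⊕ Fin m) F) *ᵥ u ≠ 0 := by
          rwa [show ((spGLEquiv m F g : Matrix.GeneralLinearGroup (Fin m ⊕ Fin m) F) :
            Matrix (Fin m ⊕ Fin m) (Fin m ⊕ Fin m) F) *ᵥ u = (g : (Fin m ⊕ Fin m → F) ≃ₗ[F] (Fin m ⊕ Fin m → F)) u from
            symplecticEquiv_symm_mulVec g u]
        show Projectivization.mk F ((g : (Fin m ⊕ Fin m → F) ≃ₗ[F] (Fin m ⊕ Fin m → F)) u) hgu =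
          Projectivization.mk F (((spGLEquiv m F g : Matrix.GeneralLinearGroup (Fin m ⊕ Fin m) F) :
            Matrix (Fin m ⊕ Fin m) (Fin m ⊕ Fin m) F) *ᵥ u) hgu'
        congr 1
        exact (symplecticEquiv_symm_mulVec g u).symm }
  exact MulAction.IsPreprimitive.of_surjective (f := f) Function.surjective_id

end CfsgLib.Classical.Symp
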