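import Cfsg.Agent.Lib.Classical.Iso

/-!
Alternating forms: transvections, transitivity and generation of the symplectic group by
transvections, over an arbitrary field.
-/

set_option autoImplicit false

namespace CfsgLib.Classical.Symp

open LinearMap (BilinForm)

variable {F : Type*} [Field F] {V : Type*} [AddCommGroup V] [Module F V]

/-- The isometry group of a bilinear form. -/
abbrev Sp (B : BilinForm F V) : Subgroup (V ≃ₗ[F] V) := Iso F fun u v => B u v

variable {B : BilinForm F V}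

theorem swap (hA : B.IsAlt) (u v : V) : B v u = -B u v := by
  rw [← LinearMap.BilinForm.IsAlt.neg_eq hA u v]

theorem ne_zero_of_apply_ne_zero {u v : V} (h : B u v ≠ 0) : u ≠ 0 := by
  rintro rfl; simp at h

theorem exists_partner {U : Submodule F V} (hU : ∀ x ∈ U, (∀ y ∈ U, B x y = 0) → x = 0)
    {u : V} (hu : u ∈ U) (hu0 : u ≠ 0) : ∃ v ∈ U, B u v = 1 := by
  by_contra h
  push Not at h
  refine hu0 (hU u hu fun y hy => ?_)
  by_contra hy0
  exact h ((B u y)⁻¹ • y) (U.smul_mem _ hy) (by simp [hy0])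

theorem nondeg_top (hB : B.Nondegenerate) :
    ∀ x ∈ (⊤ : Submodule F V), (∀ y ∈ (⊤ : Submodule F V), B x y = 0) → x = 0 :=
  fun x _ h => hB.1 x fun y => h y trivial

/-- The symplectic transvection `x ↦ x + c B(x, v) v`. -/
def trMap (B : BilinForm F V) (v : V) (c : F) : V →ₗ[F] V :=
  LinearMap.id + c • ((B.flip v).smulRight v)

theorem trMap_apply (v : V) (c : F) (x : V) : trMap B v c x = x + (c * B x v) • v := by
  simp [trMap, smul_smul]

theorem trMap_trMap (hA : B.IsAlt) (v : V) (c d : F) (x : V) :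
    trMap B v c (trMap B v d x) = trMap B v (c + d) x := by
  simp only [trMap_apply, map_add, LinearMap.map_smul, LinearMap.add_apply, LinearMap.smul_apply,
    smul_eq_mul, hA v, mul_zero, add_zero]
  module

/-- The symplectic transvection as an element of `Sp B`. -/
def tr (hA : B.IsAlt) (v : V) (c : F) : Sp B :=
  ⟨{ toLinearMap := trMap B v c
     invFun := trMap B v (-c)
     left_inv := fun x => by
       show trMap B v (-c) (trMap B v c x) = x
       rw [trMap_trMap hA, neg_add_cancel, trMap_apply, zero_mul, zero_smul, add_zero]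
     right_inv := fun x => by
       show trMap B v c (trMap B v (-c) x) = x
       rw [trMap_trMap hA, add_neg_cancel, trMap_apply, zero_mul, zero_smul, add_zero] },
    fun x y => by
      show B (trMap B v c x) (trMap B v c y) = B x y
      simp only [trMap_apply, map_add, LinearMap.map_smul, LinearMap.add_apply,
        LinearMap.smul_apply, smul_eq_mul, hA v]
      rw [swap hA y v]
      ring⟩

theorem tr_apply (hA : B.IsAlt) (v : V) (c : F) (x : V) :
    (tr hA v c : V ≃ₗ[F] V) x = x + (c * B x v) • v := trMap_apply v c x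

theorem tr_mul (hA : B.IsAlt) (v : V) (c d : F) : tr hA v c * tr hA v d = tr hA v (c + d) := by
  ext x
  exact trMap_trMap hA v c d x

theorem tr_zero (hA : B.IsAlt) (v : V) : tr hA v 0 = 1 := by
  ext x
  simp [tr_apply]

theorem tr_inv (hA : B.IsAlt) (v : V) (c : F) : (tr hA v c)⁻¹ = tr hA v (-c) :=
  inv_eq_of_mul_eq_one_right (by rw [tr_mul, add_neg_cancel, tr_zero])

theorem conj_tr (hA : B.IsAlt) (g : Sp B) (v : V) (c : F) :
    g * tr hA v c * g⁻¹ = tr hA ((g : V ≃ₗ[F] V) v) c := by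
  ext x
  obtain ⟨y, rfl⟩ := (g : V ≃ₗ[F] V).surjective x
  have h : B ((g : V ≃ₗ[F] V) y) ((g : V ≃ₗ[F] V) v) = B y v := g.2 y v
  simp only [Subgroup.coe_mul, Subgroup.coe_inv, LinearEquiv.mul_apply, LinearEquiv.coe_inv,
    LinearEquiv.symm_apply_apply, tr_apply, map_add, LinearEquiv.map_smul, h]

theorem tr_smul_vec (hA : B.IsAlt) (a : F) (v : V) (c : F) :
    tr hA (a • v) c = tr hA v (a ^ 2 * c) := by
  ext x
  simp only [tr_apply, LinearMap.map_smul, smul_eq_mul, smul_smul]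
  congr 2
  ring

theorem tr_fix (hA : B.IsAlt) {v x : V} (c : F) (h : B x v = 0) :
    (tr hA v c : V ≃ₗ[F] V) x = x := by
  simp [tr_apply, h]

/-- The subgroup generated by the transvections along vectors of `U`. -/
def trGroup (hA : B.IsAlt) (U : Submodule F V) : Subgroup (Sp B) :=
  Subgroup.closure {g | ∃ v ∈ U, ∃ c : F, g = tr hA v c}

theorem tr_mem_trGroup (hA : B.IsAlt) {U : Submodule F V} {v : V} (hv : v ∈ U) (c : F) :
    tr hA v c ∈ trGroup hA U :=
  Subgroup.subset_closure ⟨v, hv, c, rfl⟩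

theorem trGroup_fix (hA : B.IsAlt) {U : Submodule F V} {g : Sp B} (hg : g ∈ trGroup hA U)
    {x : V} (hx : ∀ v ∈ U, B x v = 0) : (g : V ≃ₗ[F] V) x = x := by
  induction hg using Subgroup.closure_induction with
  | mem y hy => obtain ⟨v, hv, c, rfl⟩ := hy; exact tr_fix hA c (hx v hv)
  | one => rfl
  | mul y z _ _ hy hz => simp [hy, hz]
  | inv y _ hy =>
    conv_lhs => rw [← hy]
    simp [LinearEquiv.coe_inv]

theorem exists_tr_of_apply_ne_zero (hA : B.IsAlt) {U : Submodule F V} {u w : V} (hu : u ∈ U)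
    (hw : w ∈ U) (h : B u w ≠ 0) :
    ∃ t ∈ trGroup hA U, (t : V ≃ₗ[F] V) u = w := by
  refine ⟨tr hA (w - u) (B u w)⁻¹, tr_mem_trGroup hA (U.sub_mem hw hu) _, ?_⟩
  simp [tr_apply, map_sub, hA u, h]

theorem exists_apply_ne_zero_both {U : Submodule F V} {u w : V}
    (hu : ∃ a ∈ U, B u a ≠ 0) (hw : ∃ b ∈ U, B w b ≠ 0) :
    ∃ z ∈ U, B u z ≠ 0 ∧ B w z ≠ 0 := by
  obtain ⟨a, ha, hua⟩ := hu
  obtain ⟨b, hb, hwb⟩ := hw
  by_cases h1 : B w a = 0
  · by_cases h2 : B u b = 0
    · exact ⟨a + b, U.add_mem ha hb, by simp [h2, hua], by simp [h1, hwb]⟩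
    · exact ⟨b, hb, h2, hwb⟩
  · exact ⟨a, ha, hua, h1⟩

theorem transitive_ne_zero (hA : B.IsAlt) {U : Submodule F V}
    (hU : ∀ x ∈ U, (∀ y ∈ U, B x y = 0) → x = 0) {u w : V} (hu : u ∈ U) (hw : w ∈ U)
    (hu0 : u ≠ 0) (hw0 : w ≠ 0) :
    ∃ t ∈ trGroup hA U, (t : V ≃ₗ[F] V) u = w := by
  by_cases h : B u w = 0
  · have key : ∀ x ∈ U, x ≠ 0 → ∃ a ∈ U, B x a ≠ 0 := fun x hx hx0 => by
      obtain ⟨a, ha, h⟩ := exists_partner hU hx hx0
      exact ⟨a, ha, by simp [h]⟩
    obtain ⟨z, hz, h1, h2⟩ := exists_apply_ne_zero_both (key u hu hu0) (key w hw hw0)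
    obtain ⟨t, ht, htu⟩ := exists_tr_of_apply_ne_zero hA hu hz h1
    obtain ⟨s, hs, hsz⟩ := exists_tr_of_apply_ne_zero hA hz hw (by rwa [swap hA w z, neg_ne_zero])
    exact ⟨s * t, mul_mem hs ht, by simp [htu, hsz]⟩
  · exact exists_tr_of_apply_ne_zero hA hu hw h

theorem exists_tr_fixing (hA : B.IsAlt) {U : Submodule F V} {u v v' : V} (hv : v ∈ U)
    (hv' : v' ∈ U) (h : B u v = B u v') (hne : B v v' ≠ 0) :
    ∃ t ∈ trGroup hA U, (t : V ≃ₗ[F] V) u = u ∧ (t : V ≃ₗ[F] V) v = v' := by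
  refine ⟨tr hA (v' - v) (B v v')⁻¹, tr_mem_trGroup hA (U.sub_mem hv' hv) _, ?_, ?_⟩
  · exact tr_fix hA _ (by rw [map_sub, h, sub_self])
  · simp [tr_apply, map_sub, hA v, hne]

theorem trGroup_sub_mem (hA : B.IsAlt) {U : Submodule F V} {g : Sp B} (hg : g ∈ trGroup hA U)
    (x : V) : (g : V ≃ₗ[F] V) x - x ∈ U := by
  induction hg using Subgroup.closure_induction generalizing x with
  | mem y hy =>
    obtain ⟨v, hv, c, rfl⟩ := hy
    simpa [tr_apply] using U.smul_mem _ hv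
  | one => simp
  | mul y z _ _ hy hz => simpa using U.add_mem (hy ((z : V ≃ₗ[F] V) x)) (hz x)
  | inv y _ hy =>
    simpa [LinearEquiv.coe_inv] using U.neg_mem (hy ((y : V ≃ₗ[F] V).symm x))

theorem trGroup_apply_mem (hA : B.IsAlt) {U : Submodule F V} {g : Sp B} (hg : g ∈ trGroup hA U)
    {x : V} (hx : x ∈ U) : (g : V ≃ₗ[F] V) x ∈ U := by
  simpa using U.add_mem (trGroup_sub_mem hA hg x) hx

theorem transitive_hyperbolic (hA : B.IsAlt) {U : Submodule F V}
    (hU : ∀ x ∈ U, (∀ y ∈ U, B x y = 0) → x = 0) {u v u' v' : V} (hu : u ∈ U) (hv : v ∈ U)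
    (hu' : u' ∈ U) (hv' : v' ∈ U) (h : B u v = 1) (h' : B u' v' = 1) :
    ∃ t ∈ trGroup hA U, (t : V ≃ₗ[F] V) u = u' ∧ (t : V ≃ₗ[F] V) v = v' := by
  have hu0 : u ≠ 0 := ne_zero_of_apply_ne_zero (B := B) (v := v) (by rw [h]; exact one_ne_zero)
  have hu0' : u' ≠ 0 :=
    ne_zero_of_apply_ne_zero (B := B) (v := v') (by rw [h']; exact one_ne_zero)
  obtain ⟨t, ht, htu⟩ := transitive_ne_zero hA hU hu hu' hu0 hu0'
  have hw : (t : V ≃ₗ[F] V) v ∈ U := trGroup_apply_mem hA ht hv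
  have hBw : B u' ((t : V ≃ₗ[F] V) v) = 1 := by rw [← htu]; exact (t.2 u v).trans h
  suffices ∀ w ∈ U, B u' w = 1 →
      ∃ s ∈ trGroup hA U, (s : V ≃ₗ[F] V) u' = u' ∧ (s : V ≃ₗ[F] V) w = v' by
    obtain ⟨s, hs, hs1, hs2⟩ := this _ hw hBw
    exact ⟨s * t, mul_mem hs ht, by simp [htu, hs1], by simp [hs2]⟩
  intro w hw hBw
  by_cases hne : B w v' = 0
  · have hz : u' + w ∈ U := U.add_mem hu' hw
    obtain ⟨s₁, hs₁, e1, e1'⟩ := exists_tr_fixing hA (u := u') hw hz
      (by rw [map_add, hA u', zero_add]) (by simp [hA w, swap hA u' w, hBw])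
    obtain ⟨s₂, hs₂, e2, e2'⟩ := exists_tr_fixing hA (u := u') hz hv'
      (by rw [map_add, hA u', zero_add, hBw, h']) (by simp [hne, h'])
    exact ⟨s₂ * s₁, mul_mem hs₂ hs₁, by simp [e1, e2], by simp [e1', e2']⟩
  · exact exists_tr_fixing hA hw hv' (by rw [hBw, h']) hne

theorem sp_transitive_ne_zero (hA : B.IsAlt) (hB : B.Nondegenerate) {u w : V} (hu : u ≠ 0)
    (hw : w ≠ 0) : ∃ t ∈ trGroup hA ⊤, (t : V ≃ₗ[F] V) u = w :=
  transitive_ne_zero hA (nondeg_top hB) trivial trivial hu hw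

theorem sp_transitive_hyperbolic (hA : B.IsAlt) (hB : B.Nondegenerate) {u v u' v' : V}
    (h : B u v = 1) (h' : B u' v' = 1) :
    ∃ t ∈ trGroup hA ⊤, (t : V ≃ₗ[F] V) u = u' ∧ (t : V ≃ₗ[F] V) v = v' :=
  transitive_hyperbolic hA (nondeg_top hB) trivial trivial trivial trivial h h'

theorem mem_orthogonal {W : Submodule F V} {x : V} :
    x ∈ B.orthogonal W ↔ ∀ w ∈ W, B w x = 0 :=
  LinearMap.BilinForm.mem_orthogonal_iff

theorem nondeg_orthogonal [FiniteDimensional F V] (hA : B.IsAlt) (hB : B.Nondegenerate)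
    {W : Submodule F V} (hW : ∀ x ∈ W, (∀ y ∈ W, B x y = 0) → x = 0) :
    IsCompl W (B.orthogonal W) ∧
      ∀ x ∈ B.orthogonal W, (∀ y ∈ B.orthogonal W, B x y = 0) → x = 0 := by
  have hc : IsCompl W (B.orthogonal W) := by
    rw [LinearMap.BilinForm.isCompl_orthogonal_iff_disjoint hA.isRefl, Submodule.disjoint_def]
    intro x hx hx'
    refine hW x hx fun y hy => ?_
    rw [swap hA y x, mem_orthogonal.1 hx' y hy, neg_zero]
  refine ⟨hc, fun x hx h => hB.1 x fun y => ?_⟩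
  obtain ⟨w, u, hw, hu, rfl⟩ := Submodule.codisjoint_iff_exists_add_eq.1 hc.codisjoint y
  rw [map_add, h u hu, swap hA w x, mem_orthogonal.1 hx w hw, neg_zero, add_zero]

theorem nondeg_sup_pair (hA : B.IsAlt) {W : Submodule F V}
    (hW : ∀ x ∈ W, (∀ y ∈ W, B x y = 0) → x = 0) {u v : V}
    (hu : u ∈ B.orthogonal W) (hv : v ∈ B.orthogonal W) (h : B u v = 1) :
    ∀ x ∈ W ⊔ Submodule.span F {u, v},
      (∀ y ∈ W ⊔ Submodule.span F {u, v}, B x y = 0) → x = 0 := by
  intro x hx hrad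
  obtain ⟨w, hw, p, hp, rfl⟩ := Submodule.mem_sup.1 hx
  obtain ⟨a, b, rfl⟩ := Submodule.mem_span_pair.1 hp
  have hWu : B w u = 0 := mem_orthogonal.1 hu w hw
  have hWv : B w v = 0 := mem_orthogonal.1 hv w hw
  have h1 := hrad u (Submodule.mem_sup_right (Submodule.subset_span (by simp)))
  have h2 := hrad v (Submodule.mem_sup_right (Submodule.subset_span (by simp)))
  simp [hWu, hA u, swap hA u v, h] at h1
  simp [hWv, hA v, h, h1] at h2
  have hw0 : w = 0 := hW w hw fun y hy => by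
    have h3 := hrad y (Submodule.mem_sup_left hy)
    simpa [h1, h2] using h3
  simp [hw0, h1, h2]

theorem trGroup_eq_top [FiniteDimensional F V] (hA : B.IsAlt) (hB : B.Nondegenerate) :
    trGroup hA (⊤ : Submodule F V) = ⊤ := by
  suffices ∀ (k : ℕ) (W : Submodule F V), Module.finrank F V ≤ Module.finrank F W + k →
      (∀ x ∈ W, (∀ y ∈ W, B x y = 0) → x = 0) →
      ∀ g : Sp B, (∀ x ∈ W, (g : V ≃ₗ[F] V) x = x) → g ∈ trGroup hA (⊤ : Submodule F V) by
    refine eq_top_iff.2 fun g _ => this (Module.finrank F V) ⊥ (by simp) (by simp) g ?_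
    intro x hx
    rw [Submodule.mem_bot] at hx
    simp [hx]
  intro k
  induction k with
  | zero =>
    intro W hW _ g hg
    have hWt : W = ⊤ :=
      Submodule.eq_top_of_finrank_eq (le_antisymm (Submodule.finrank_le W) (by simpa using hW))
    have : g = 1 := by ext x; simpa using hg x (hWt ▸ Submodule.mem_top)
    rw [this]; exact one_mem _
  | succ k ih =>
    intro W hW hWn g hg
    by_cases hWt : W = ⊤
    · have : g = 1 := by ext x; simpa using hg x (hWt ▸ Submodule.mem_top)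
      rw [this]; exact one_mem _
    obtain ⟨hc, hUn⟩ := nondeg_orthogonal hA hB hWn
    have hUne : B.orthogonal W ≠ ⊥ := fun h => hWt (by simpa [h] using hc.sup_eq_top)
    obtain ⟨u, hu, hu0⟩ := Submodule.exists_mem_ne_zero_of_ne_bot hUne
    obtain ⟨v, hv, huv⟩ := exists_partner hUn hu hu0
    have hgU : ∀ x ∈ B.orthogonal W, (g : V ≃ₗ[F] V) x ∈ B.orthogonal W := fun x hx => by
      rw [mem_orthogonal] at hx ⊢
      intro w hw
      rw [← hg w hw]
      exact (g.2 w x).trans (hx w hw)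
    obtain ⟨t, ht, htu, htv⟩ := transitive_hyperbolic hA hUn (hgU u hu) (hgU v hv) hu hv
      ((g.2 u v).trans huv) huv
    have htT : t ∈ trGroup hA (⊤ : Submodule F V) :=
      Subgroup.closure_mono (by rintro y ⟨a, -, c, hy⟩; exact ⟨a, trivial, c, hy⟩) ht
    have hlt : Module.finrank F W < Module.finrank F ↥(W ⊔ Submodule.span F {u, v}) := by
      refine Submodule.finrank_lt_finrank_of_lt (lt_of_le_of_ne le_sup_left fun h => ?_)
      have huW : u ∈ W :=
        h ▸ Submodule.mem_sup_right (Submodule.subset_span (Set.mem_insert _ _))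
      exact hu0 (Submodule.disjoint_def.1 hc.disjoint u huW hu)
    have hmem := ih (W ⊔ Submodule.span F {u, v}) (by omega)
      (nondeg_sup_pair hA hWn hu hv huv) (t * g) (by
        intro x hx
        obtain ⟨w, hw, p, hp, rfl⟩ := Submodule.mem_sup.1 hx
        obtain ⟨a, b, rfl⟩ := Submodule.mem_span_pair.1 hp
        have htw : (t : V ≃ₗ[F] V) w = w :=
          trGroup_fix hA ht fun z hz => mem_orthogonal.1 hz w hw
        simp [hg w hw, htw, htu, htv])
    exact (Subgroup.mul_mem_cancel_left _ htT).1 hmem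

end CfsgLib.Classical.Symp
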