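import Cfsg.Agent.Lib.Classical.Symplectic.Geometry

/-!
Stabilisers in `Matrix.symplecticGroup` and numbers of totally isotropic lines.
-/

set_option autoImplicit false

namespace CfsgLib.Classical.Symp

open LinearMap (BilinForm)
open scoped Matrix

variable {m : ℕ} {F : Type*} [Field F]

/-- A stabiliser in the matrix group as a stabiliser in the isometry group. -/
theorem map_stabilizing (W : Submodule F (Fin m ⊕ Fin m → F)) :
    (Cfsg.stabilizing (Cfsg.spToMat m F) (W : Set (Fin m ⊕ Fin m → F))).map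
      (symplecticEquiv m F).toMonoidHom = isoStab (fun u v => sympBil m F u v) W := by
  ext g
  rw [Subgroup.mem_map_equiv, mem_isoStab]
  refine forall_congr' fun x => iff_congr Iff.rfl ?_
  show (((symplecticEquiv m F).symm g : Matrix.symplecticGroup (Fin m) F) : Matrix _ _ F) *ᵥ x ∈
    W ↔ _
  rw [symplecticEquiv_symm_mulVec]

/-- The stabiliser of a subspace in both descriptions. -/
noncomputable def stabEquiv (W : Submodule F (Fin m ⊕ Fin m → F)) :
    ↥(Cfsg.stabilizing (Cfsg.spToMat m F) (W : Set (Fin m ⊕ Fin m → F))) ≃*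
      ↥(isoStab (fun u v => sympBil m F u v) W) :=
  ((symplecticEquiv m F).subgroupMap _).trans (MulEquiv.subgroupCongr (map_stabilizing W))

theorem sympBil_eq_zero_iff (u v : Fin m ⊕ Fin m → F) :
    sympBil m F u v = 0 ↔ Cfsg.sympForm m F u v = 0 := by
  rw [sympBil_apply]

theorem card_sp_stab [Fintype F] {q : ℕ} (hF : Fintype.card F = q) (m k : ℕ) (hk : k ≤ m)
    (W : Submodule F (Fin m ⊕ Fin m → F)) (hWk : Module.finrank F W = k)
    (hW : ∀ u ∈ W, ∀ v ∈ W, Cfsg.sympForm m F u v = 0) :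
    Nat.card ↥(Cfsg.stabilizing (Cfsg.spToMat m F) (W : Set (Fin m ⊕ Fin m → F))) =
      q ^ (k * (k + 1) / 2 + 2 * k * (m - k)) *
        (q ^ ((m - k) ^ 2) * ∏ i ∈ Finset.range (m - k), (q ^ (2 * (i + 1)) - 1)) *
        ∏ i : Fin k, (q ^ k - q ^ (i : ℕ)) := by
  rw [Nat.card_congr (stabEquiv W).toEquiv, card_isoStab (sympBil_isAlt m F)
    (sympBil_nondegenerate m F) (finrank_sympSpace m F) hk W hWk
    (fun u hu v hv => (sympBil_eq_zero_iff u v).2 (hW u hu v hv)), Nat.card_eq_fintype_card, hF]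
  rfl

theorem nonempty_sp_stab_equiv (m k : ℕ) (hk : k ≤ m) (W : Submodule F (Fin m ⊕ Fin m → F))
    (hWk : Module.finrank F W = 2 * k)
    (hW : ∀ u ∈ W, (∀ v ∈ W, Cfsg.sympForm m F u v = 0) → u = 0) :
    Nonempty (↥(Cfsg.stabilizing (Cfsg.spToMat m F) (W : Set (Fin m ⊕ Fin m → F))) ≃*
      Matrix.symplecticGroup (Fin k) F × Matrix.symplecticGroup (Fin (m - k)) F) := by
  have hA := sympBil_isAlt m F
  have hB := sympBil_nondegenerate m F
  have hW' : ∀ u ∈ W, (∀ v ∈ W, sympBil m F u v = 0) → u = 0 := fun u hu h =>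
    hW u hu fun v hv => (sympBil_eq_zero_iff u v).1 (h v hv)
  obtain ⟨hc, hUn⟩ := nondeg_orthogonal hA hB hW'
  have hr := Submodule.finrank_add_eq_of_isCompl hc
  rw [hWk, finrank_sympSpace] at hr
  obtain ⟨e₁, he₁⟩ := exists_isometry (restrict_isAlt hA W) (restrict_nondegenerate hA hW')
    (sympBil_isAlt k F) (sympBil_nondegenerate k F) (by rw [hWk, finrank_sympSpace])
  obtain ⟨e₂, he₂⟩ := exists_isometry (restrict_isAlt hA _) (restrict_nondegenerate hA hUn)
    (sympBil_isAlt (m - k) F) (sympBil_nondegenerate (m - k) F)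
    (by rw [finrank_sympSpace]; omega)
  exact ⟨((stabEquiv W).trans (isoStabEquiv (f := fun u v => sympBil m F u v) hc
      (add_add_apply hA W) (orthogonal_preserved W)).symm).trans
    (((isoCongrEq e₁ he₁).trans (symplecticEquiv k F).symm).prodCongr
      ((isoCongrEq e₂ he₂).trans (symplecticEquiv (m - k) F).symm))⟩

/-- The standard basis vector `e_i`. -/
abbrev eVec (F : Type*) [Field F] {m : ℕ} (i : Fin m) : Fin m ⊕ Fin m → F := Pi.single (Sum.inl i) 1

theorem eVec_mem_isoTuples : eVec F (m := m) ∈ isoTuples (sympBil m F) m := by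
  refine ⟨?_, fun i j => ?_⟩
  · rw [Fintype.linearIndependent_iff]
    intro g hg i
    have h := congrFun hg (Sum.inl i)
    simpa [eVec, Finset.sum_apply, Pi.single_apply] using h
  · rw [sympBil_eq_zero_iff, sympForm_expand]
    simp [eVec]

/-- The standard isotropic flag. -/
def flag (F : Type*) [Field F] {m : ℕ} (k : ℕ) : Submodule F (Fin m ⊕ Fin m → F) where
  carrier := {v | (∀ i : Fin m, k < (i : ℕ) → v (Sum.inl i) = 0) ∧ ∀ i : Fin m, v (Sum.inr i) = 0}
  zero_mem' := by simp
  add_mem' := by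
    intro a b ha hb
    exact ⟨fun i hi => by simp [ha.1 i hi, hb.1 i hi], fun i => by simp [ha.2 i, hb.2 i]⟩
  smul_mem' := by
    intro c a ha
    exact ⟨fun i hi => by simp [ha.1 i hi], fun i => by simp [ha.2 i]⟩

theorem mem_flag_iff {k : ℕ} {v : Fin m ⊕ Fin m → F} :
    v ∈ flag F k ↔
      (∀ i : Fin m, k < (i : ℕ) → v (Sum.inl i) = 0) ∧ ∀ i : Fin m, v (Sum.inr i) = 0 := Iff.rfl

theorem flag_eq_sum {k : ℕ} {v : Fin m ⊕ Fin m → F} (hv : v ∈ flag F k) :
    v = ∑ i : Fin m, v (Sum.inl i) • eVec F i := by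
  funext x
  rcases x with i | i
  · simp [eVec, Finset.sum_apply, Pi.single_apply]
  · simp [eVec, Finset.sum_apply, hv.2 i]

theorem eVec_mem_flag (i : Fin m) (k : ℕ) (hk : (i : ℕ) ≤ k) : eVec F i ∈ flag F k :=
  ⟨fun j hj => by
    have hne : j ≠ i := fun h => by rw [h] at hj; omega
    simp [eVec, hne], fun j => by simp [eVec]⟩

theorem eVec_li_of_triangular {v : Fin m → Fin m ⊕ Fin m → F}
    (hv : ∀ i : Fin m, v i ∈ flag F (i : ℕ) ∧ v i (Sum.inl i) ≠ 0) : LinearIndependent F v := by
  rw [Fintype.linearIndependent_iff]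
  intro g hg
  by_contra hc
  push Not at hc
  obtain ⟨i₀, hi₀⟩ := hc
  classical
  let S := Finset.univ.filter fun i => g i ≠ 0
  obtain ⟨j, hj, hmax⟩ := S.exists_max_image id ⟨i₀, by simp [S, hi₀]⟩
  have hjne : g j ≠ 0 := (Finset.mem_filter.1 hj).2
  have h1 := congrFun hg (Sum.inl j)
  rw [Finset.sum_apply, Finset.sum_eq_single j, Pi.smul_apply, smul_eq_mul, Pi.zero_apply] at h1
  · exact (mul_ne_zero hjne (hv j).2) h1
  · intro b _ hbj
    by_cases hgb : g b = 0
    · simp [hgb]
    · have hle : b ≤ j := hmax b (by simp [S, hgb])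
      have hlt : (b : ℕ) < (j : ℕ) := lt_of_le_of_ne hle fun h => hbj (Fin.ext h)
      simp [(hv b).1.1 j hlt]
  · simp

theorem triangular_count [Finite F] (m : ℕ) :
    Nat.card {v : Fin m → Fin m ⊕ Fin m → F //
      ∀ i : Fin m, v i ∈ flag F (i : ℕ) ∧ v i (Sum.inl i) ≠ 0} =
      Nat.card F ^ (m * (m - 1) / 2) * (Nat.card F - 1) ^ m := by
  classical
  have : Fintype F := Fintype.ofFinite F
  have key : ∀ i : Fin m, Nat.card {w : Fin m ⊕ Fin m → F //
      w ∈ flag F (i : ℕ) ∧ w (Sum.inl i) ≠ 0} = Nat.card F ^ (i : ℕ) * (Nat.card F - 1) := by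
    intro i
    have e : {w : Fin m ⊕ Fin m → F // w ∈ flag F (i : ℕ) ∧ w (Sum.inl i) ≠ 0} ≃
        (Fin (i : ℕ) → F) × {x : F // x ≠ 0} :=
      { toFun := fun w => (fun j => (w : Fin m ⊕ Fin m → F) (Sum.inl ⟨j, j.2.trans i.2⟩),
          ⟨(w : Fin m ⊕ Fin m → F) (Sum.inl i), w.2.2⟩)
        invFun := fun p => ⟨Sum.elim (fun j => if h : (j : ℕ) < i then p.1 ⟨j, h⟩
            else if j = i then (p.2 : F) else 0) 0,
          ⟨fun j hj => by
            have h1 : ¬ (j : ℕ) < (i : ℕ) := by omega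
            have h2 : j ≠ i := fun h => by rw [h] at hj; omega
            simp only [Sum.elim_inl, dif_neg h1, if_neg h2],
            fun j => rfl⟩, by simp [p.2.2]⟩
        left_inv := fun w => by
          obtain ⟨w, hw1, hw2⟩ := w
          apply Subtype.ext
          funext x
          rcases x with j | j
          · rcases lt_trichotomy (j : ℕ) i with h | h | h
            · simp only [Sum.elim_inl, dif_pos h]
            · have h1 : ¬ (j : ℕ) < (i : ℕ) := by omega
              simp only [Sum.elim_inl, dif_neg h1, if_pos (Fin.ext h)]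
              rw [Fin.ext h]
            · have hne : j ≠ i := fun h' => h.ne' (congrArg Fin.val h')
              simp only [Sum.elim_inl, dif_neg (not_lt.2 h.le), if_neg hne, hw1.1 j h]
          · simp [hw1.2 j]
        right_inv := fun p => by
          refine Prod.ext (funext fun j => ?_) (Subtype.ext ?_)
          · simp only [Sum.elim_inl]
            rw [dif_pos (show ((⟨j, j.2.trans i.2⟩ : Fin m) : ℕ) < i from j.2)]
          · simp only [Sum.elim_inl, lt_irrefl, dite_false, if_true] }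
    rw [Nat.card_congr e, Nat.card_prod, Nat.card_fun, Nat.card_fin]
    congr 1
    rw [Nat.card_eq_fintype_card, Fintype.card_subtype_compl, Fintype.card_subtype_eq,
      Nat.card_eq_fintype_card]
  rw [Nat.card_congr (Equiv.subtypePiEquivPi (p := fun (i : Fin m) w =>
    w ∈ flag F (i : ℕ) ∧ w (Sum.inl i) ≠ 0)), Nat.card_pi, Finset.prod_congr rfl fun i _ => key i,
    Finset.prod_mul_distrib, Finset.prod_pow_eq_pow_sum, Finset.prod_const, Finset.card_univ,
    Fintype.card_fin, Fin.sum_univ_eq_sum_range (fun i => i), Finset.sum_range_id]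

theorem card_borel [Fintype F] {q : ℕ} (hF : Fintype.card F = q) (m : ℕ) :
    Nat.card ↥(⨅ k : Fin m, Cfsg.stabilizing (Cfsg.spToMat m F)
      {v : Fin m ⊕ Fin m → F | (∀ i : Fin m, (k : ℕ) < (i : ℕ) → v (Sum.inl i) = 0) ∧
        ∀ i : Fin m, v (Sum.inr i) = 0}) = q ^ (m ^ 2) * (q - 1) ^ m := by
  classical
  have hA := sympBil_isAlt m F
  have hB := sympBil_nondegenerate m F
  set P := ⨅ k : Fin m, Cfsg.stabilizing (Cfsg.spToMat m F)
    ((flag F (k : ℕ) : Submodule F (Fin m ⊕ Fin m → F)) : Set (Fin m ⊕ Fin m → F))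
  show Nat.card ↥P = _
  set S := P.map (symplecticEquiv m F).toMonoidHom with hS
  have hmem : ∀ g : Sp (sympBil m F), g ∈ S ↔
      ∀ (k : Fin m) (x : Fin m ⊕ Fin m → F), x ∈ flag F (k : ℕ) ↔
        (g : (Fin m ⊕ Fin m → F) ≃ₗ[F] (Fin m ⊕ Fin m → F)) x ∈ flag F (k : ℕ) := by
    intro g
    rw [hS, Subgroup.mem_map_equiv, Subgroup.mem_iInf]
    refine forall_congr' fun k => forall_congr' fun x => iff_congr Iff.rfl ?_
    show (((symplecticEquiv m F).symm g : Matrix.symplecticGroup (Fin m) F) :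
      Matrix (Fin m ⊕ Fin m) (Fin m ⊕ Fin m) F) *ᵥ x ∈
      flag F (k : ℕ) ↔ _
    rw [symplecticEquiv_symm_mulVec]
  have hfixin : ∀ g : Sp (sympBil m F),
      (∀ i : Fin m, (g : (Fin m ⊕ Fin m → F) ≃ₗ[F] (Fin m ⊕ Fin m → F)) (eVec F i) ∈ flag F (i : ℕ)) → g ∈ S := by
    intro g hg
    rw [hmem]
    intro k x
    have hle : (flag F (k : ℕ)).map
        ((g : (Fin m ⊕ Fin m → F) ≃ₗ[F] (Fin m ⊕ Fin m → F)) :
          (Fin m ⊕ Fin m → F) →ₗ[F] (Fin m ⊕ Fin m → F)) ≤
        flag F (k : ℕ) := by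
      rintro _ ⟨y, hy, rfl⟩
      rw [flag_eq_sum hy, map_sum]
      refine Submodule.sum_mem _ fun i _ => ?_
      rw [map_smul]
      by_cases hi : (k : ℕ) < (i : ℕ)
      · rw [hy.1 i hi, zero_smul]; exact Submodule.zero_mem _
      · exact Submodule.smul_mem _ _ ⟨fun j hj => (hg i).1 j (by omega), (hg i).2⟩
    have heq := Submodule.eq_of_le_of_finrank_eq hle (LinearEquiv.finrank_map_eq
      (g : (Fin m ⊕ Fin m → F) ≃ₗ[F] (Fin m ⊕ Fin m → F)) (flag F (k : ℕ)))
    constructor
    · exact fun hx => hle ⟨x, hx, rfl⟩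
    · intro hx
      rw [← heq] at hx
      obtain ⟨y, hy, e⟩ := hx
      rwa [← (g : (Fin m ⊕ Fin m → F) ≃ₗ[F] (Fin m ⊕ Fin m → F)).injective e]
  have h1 := card_subgroup_mul hA hB (eVec_mem_isoTuples (m := m) (F := F)) S fun g hg =>
    hfixin g fun i => by rw [hg]; exact eVec_mem_flag i _ le_rfl
  have horb : {v : Fin m → Fin m ⊕ Fin m → F | ∃ g ∈ S,
      ∀ i, (g : (Fin m ⊕ Fin m → F) ≃ₗ[F] _) (eVec F i) = v i} =
      {v | ∀ i : Fin m, v i ∈ flag F (i : ℕ) ∧ v i (Sum.inl i) ≠ 0} := by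
    ext v
    constructor
    · rintro ⟨g, hg, e⟩ i
      have hflag := ((hmem g).1 hg i (eVec F i)).1 (eVec_mem_flag i _ le_rfl)
      rw [e i] at hflag
      refine ⟨hflag, fun h0 => ?_⟩
      rcases Nat.eq_zero_or_pos (i : ℕ) with hi | hi
      · have : v i = 0 := by
          rw [flag_eq_sum hflag]
          refine Finset.sum_eq_zero fun j _ => ?_
          by_cases hji : j = i
          · rw [hji, h0, zero_smul]
          · rw [hflag.1 j (by
              have : (j : ℕ) ≠ i := fun h => hji (Fin.ext h)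
              omega), zero_smul]
        rw [← e i, LinearEquiv.map_eq_zero_iff] at this
        simpa [eVec] using congrFun this (Sum.inl i)
      · let i' : Fin m := ⟨(i : ℕ) - 1, by omega⟩
        have hv' : v i ∈ flag F (i' : ℕ) := ⟨fun j hj => by
          by_cases hji : j = i
          · rw [hji, h0]
          · refine hflag.1 j ?_
            have : (j : ℕ) ≠ i := fun h => hji (Fin.ext h)
            simp only [i'] at hj
            omega, hflag.2⟩
        rw [← e i] at hv'
        have := ((hmem g).1 hg i' (eVec F i)).2 hv'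
        have h2 := this.1 i (by simp only [i']; omega)
        simp [eVec] at h2
    · intro hv
      obtain ⟨g, hg⟩ := exists_map_isoTuples hA hB (eVec_mem_isoTuples (m := m) (F := F))
        (v' := v) ⟨eVec_li_of_triangular hv, fun i j => by
          rw [sympBil_eq_zero_iff, sympForm_expand]
          simp [(hv i).1.2, (hv j).1.2]⟩
      exact ⟨g, hfixin g fun i => by rw [hg]; exact (hv i).1, hg⟩
  rw [horb, card_Sp hA hB m (finrank_sympSpace m F), Nat.card_eq_fintype_card (α := F), hF,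
    show Nat.card {v : Fin m → Fin m ⊕ Fin m → F | ∀ i : Fin m, v i ∈ flag F (i : ℕ) ∧ v i (Sum.inl i) ≠ 0} =
      q ^ (m * (m - 1) / 2) * (q - 1) ^ m by
        rw [← hF, ← Nat.card_eq_fintype_card]; exact triangular_count m] at h1
  have h2 := card_isoTuples (k := m) hA hB (finrank_sympSpace m F) le_rfl
  rw [Nat.sub_self, Nat.card_eq_fintype_card (α := F), hF,
    show ordProd q 0 = 1 from rfl, mul_one] at h2
  rw [h2, show Nat.card ↥S = Nat.card ↥P from
    (Nat.card_congr ((symplecticEquiv m F).subgroupMap P).toEquiv).symm] at h1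
  have hq2 : 2 ≤ q := hF ▸ Fintype.one_lt_card
  refine Nat.eq_of_mul_eq_mul_left (Nat.mul_pos (Nat.pow_pos (n := m * (m - 1) / 2)
    (by omega : 0 < q)) (ordProd_pos hq2 m)) (h1.trans ?_)
  simp only [ordProd]
  ring

/-- The Levi element `diag(A, (A⁻¹)ᵀ)`. -/
noncomputable def leviHom (m : ℕ) (F : Type*) [Field F] :
    Matrix.GeneralLinearGroup (Fin m) F →* Matrix.symplecticGroup (Fin m) F where
  toFun A := ⟨Matrix.fromBlocks (A : Matrix (Fin m) (Fin m) F) 0 0
      ((A⁻¹ : Matrix.GeneralLinearGroup (Fin m) F) : Matrix (Fin m) (Fin m) F)ᵀ, by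
    rw [SymplecticGroup.mem_iff, Matrix.J, Matrix.fromBlocks_transpose, Matrix.transpose_zero,
      Matrix.transpose_transpose, Matrix.fromBlocks_multiply, Matrix.fromBlocks_multiply]
    have h1 : ((A⁻¹ : Matrix.GeneralLinearGroup (Fin m) F) : Matrix (Fin m) (Fin m) F)ᵀ *
        (A : Matrix (Fin m) (Fin m) F)ᵀ = 1 := by
      rw [← Matrix.transpose_mul, ← Units.val_mul, mul_inv_cancel, Units.val_one,
        Matrix.transpose_one]
    have h2 : (A : Matrix (Fin m) (Fin m) F) *
        ((A⁻¹ : Matrix.GeneralLinearGroup (Fin m) F) : Matrix (Fin m) (Fin m) F) = 1 := by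
      rw [← Units.val_mul, mul_inv_cancel, Units.val_one]
    congr 1 <;> simp [h1, h2, -Matrix.coe_units_inv]⟩
  map_one' := by ext1; simp
  map_mul' A B := by
    ext1
    simp [Matrix.fromBlocks_multiply, mul_inv_rev, Matrix.transpose_mul]

theorem nonempty_levi_equiv (m : ℕ) :
    Nonempty (↥(Cfsg.stabilizing (Cfsg.spToMat m F)
        {v : Fin m ⊕ Fin m → F | ∀ i : Fin m, v (Sum.inr i) = 0} ⊓
      Cfsg.stabilizing (Cfsg.spToMat m F)
        {v : Fin m ⊕ Fin m → F | ∀ i : Fin m, v (Sum.inl i) = 0}) ≃*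
      Matrix.GeneralLinearGroup (Fin m) F) := by
  classical
  set S := Cfsg.stabilizing (Cfsg.spToMat m F)
        {v : Fin m ⊕ Fin m → F | ∀ i : Fin m, v (Sum.inr i) = 0} ⊓
      Cfsg.stabilizing (Cfsg.spToMat m F)
        {v : Fin m ⊕ Fin m → F | ∀ i : Fin m, v (Sum.inl i) = 0}
  have hrange : (leviHom m F).range = S := by
    refine le_antisymm ?_ fun g hg => ?_
    · rintro _ ⟨A, rfl⟩
      have key : ∀ (B : Matrix.GeneralLinearGroup (Fin m) F) (v : Fin m ⊕ Fin m → F),
          (((leviHom m F B : Matrix.symplecticGroup (Fin m) F) : Matrix (Fin m ⊕ Fin m) (Fin m ⊕ Fin m) F) *ᵥ v) = Sum.elim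
            ((B : Matrix (Fin m) (Fin m) F) *ᵥ (v ∘ Sum.inl))
            (((B⁻¹ : Matrix.GeneralLinearGroup (Fin m) F) : Matrix (Fin m) (Fin m) F)ᵀ *ᵥ
              (v ∘ Sum.inr)) := fun B v => by
        show Matrix.fromBlocks _ _ _ _ *ᵥ v = _
        rw [Matrix.fromBlocks_mulVec]
        simp
      have fwd : ∀ B v, ((∀ i : Fin m, v (Sum.inr i) = 0) →
            ∀ i : Fin m, (((leviHom m F B : Matrix.symplecticGroup (Fin m) F) : Matrix (Fin m ⊕ Fin m) (Fin m ⊕ Fin m) F) *ᵥ v) (Sum.inr i) = 0) ∧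
          ((∀ i : Fin m, v (Sum.inl i) = 0) →
            ∀ i : Fin m, (((leviHom m F B : Matrix.symplecticGroup (Fin m) F) : Matrix (Fin m ⊕ Fin m) (Fin m ⊕ Fin m) F) *ᵥ v) (Sum.inl i) = 0) := fun B v => by
        constructor <;> intro h i <;> rw [key]
        · rw [show v ∘ Sum.inr = 0 from funext h, Matrix.mulVec_zero]; rfl
        · rw [show v ∘ Sum.inl = 0 from funext h, Matrix.mulVec_zero]; rfl
      have back : ∀ v, (((leviHom m F A⁻¹ : Matrix.symplecticGroup (Fin m) F) : Matrix (Fin m ⊕ Fin m) (Fin m ⊕ Fin m) F) *ᵥ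
          (((leviHom m F A : Matrix.symplecticGroup (Fin m) F) : Matrix (Fin m ⊕ Fin m) (Fin m ⊕ Fin m) F) *ᵥ v)) = v := fun v => by
        rw [Matrix.mulVec_mulVec, ← Submonoid.coe_mul, ← map_mul, inv_mul_cancel, map_one]
        simp
      exact ⟨fun v => ⟨(fwd A v).1, fun h => back v ▸ (fwd A⁻¹ _).1 h⟩,
        fun v => ⟨(fwd A v).2, fun h => back v ▸ (fwd A⁻¹ _).2 h⟩⟩
    · set M : Matrix (Fin m ⊕ Fin m) (Fin m ⊕ Fin m) F :=
        (g : Matrix (Fin m ⊕ Fin m) (Fin m ⊕ Fin m) F) with hM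
      have hC : M.toBlocks₂₁ = 0 := by
        ext i j
        have h := (hg.1 (Pi.single (Sum.inl j) 1)).1 (fun k => by simp) i
        simpa [Matrix.toBlocks₂₁, Matrix.mulVec_single, hM] using h
      have hB : M.toBlocks₁₂ = 0 := by
        ext i j
        have h := (hg.2 (Pi.single (Sum.inr j) 1)).1 (fun k => by simp) i
        simpa [Matrix.toBlocks₁₂, Matrix.mulVec_single, hM] using h
      have hsym := SymplecticGroup.mem_iff.1 g.2
      rw [← hM, ← Matrix.fromBlocks_toBlocks M, hB, hC, Matrix.J, Matrix.fromBlocks_transpose,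
        Matrix.transpose_zero, Matrix.fromBlocks_multiply, Matrix.fromBlocks_multiply] at hsym
      have h12 := congrArg Matrix.toBlocks₁₂ hsym
      simp [Matrix.toBlocks_fromBlocks₁₂] at h12
      have hAD : M.toBlocks₁₁ * M.toBlocks₂₂ᵀ = 1 := h12
      have hDA : M.toBlocks₂₂ᵀ * M.toBlocks₁₁ = 1 := mul_eq_one_comm.1 hAD
      refine ⟨⟨M.toBlocks₁₁, M.toBlocks₂₂ᵀ, hAD, hDA⟩, ?_⟩
      apply Subtype.ext
      show Matrix.fromBlocks M.toBlocks₁₁ 0 0 (M.toBlocks₂₂ᵀ)ᵀ = M
      rw [Matrix.transpose_transpose]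
      conv_rhs => rw [← Matrix.fromBlocks_toBlocks M, hB, hC]
  refine ⟨((MonoidHom.ofInjective (f := leviHom m F) fun A B hAB => ?_).trans
    (MulEquiv.subgroupCongr hrange)).symm⟩
  have h := congrArg (fun g : Matrix.symplecticGroup (Fin m) F =>
    (g : Matrix (Fin m ⊕ Fin m) (Fin m ⊕ Fin m) F).toBlocks₁₁) hAB
  exact Units.ext (by simpa [leviHom] using h)

theorem card_lines_four [Fintype F] {q : ℕ} (hF : Fintype.card F = q) :
    Nat.card {W : Submodule F (Fin 2 ⊕ Fin 2 → F) //
      Module.finrank F W = 2 ∧ ∀ u ∈ W, ∀ v ∈ W, Cfsg.sympForm 2 F u v = 0} =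
        (q + 1) * (q ^ 2 + 1) ∧
    ∀ v : Fin 2 ⊕ Fin 2 → F, v ≠ 0 → Nat.card {W : Submodule F (Fin 2 ⊕ Fin 2 → F) //
      Module.finrank F W = 2 ∧ v ∈ W ∧ ∀ u ∈ W, ∀ w ∈ W, Cfsg.sympForm 2 F u w = 0} = q + 1 := by
  classical
  have hA := sympBil_isAlt 2 F
  have hB := sympBil_nondegenerate 2 F
  have hq2 : 2 ≤ q := hF ▸ Fintype.one_lt_card
  set B := sympBil 2 F with hBdef
  -- spans of tuples
  have hspan : ∀ v ∈ isoTuples B 2,
      Module.finrank F (Submodule.span F (Set.range v)) = 2 ∧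
        ∀ a ∈ Submodule.span F (Set.range v), ∀ b ∈ Submodule.span F (Set.range v),
          Cfsg.sympForm 2 F a b = 0 := by
    intro v hv
    refine ⟨by rw [finrank_span_eq_card hv.1, Fintype.card_fin], fun a ha b hb => ?_⟩
    obtain ⟨r, rfl⟩ := (Submodule.mem_span_range_iff_exists_fun F).1 ha
    obtain ⟨s, rfl⟩ := (Submodule.mem_span_range_iff_exists_fun F).1 hb
    rw [← sympBil_eq_zero_iff]
    simp [map_sum, LinearMap.sum_apply, ← hBdef, hv.2]
  constructor
  · let 𝒲 := {W : Submodule F (Fin 2 ⊕ Fin 2 → F) //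
      Module.finrank F W = 2 ∧ ∀ u ∈ W, ∀ v ∈ W, Cfsg.sympForm 2 F u v = 0}
    have : Finite (Submodule F (Fin 2 ⊕ Fin 2 → F)) :=
      Finite.of_injective (fun W => (W : Set (Fin 2 ⊕ Fin 2 → F))) SetLike.coe_injective
    have : Fintype 𝒲 := Fintype.ofFinite 𝒲
    let sp : isoTuples B 2 → 𝒲 := fun v => ⟨Submodule.span F (Set.range v.1), hspan v.1 v.2⟩
    have efib : ∀ W : 𝒲, {v : isoTuples B 2 // sp v = W} ≃
        {s : Fin 2 → (W : Submodule F (Fin 2 ⊕ Fin 2 → F)) // LinearIndependent F s} := fun W =>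
      { toFun := fun v => ⟨fun i => ⟨v.1.1 i, by
            have h0 : Submodule.span F (Set.range v.1.1) = W.1 := congrArg Subtype.val v.2
            rw [← h0]
            exact Submodule.subset_span ⟨i, rfl⟩⟩,
          LinearIndependent.of_comp (Submodule.subtype _) v.1.2.1⟩
        invFun := fun s => ⟨⟨fun i => (s.1 i : Fin 2 ⊕ Fin 2 → F),
          s.2.map' (Submodule.subtype _) (Submodule.ker_subtype _),
          fun i j => (sympBil_eq_zero_iff _ _).2 (W.2.2 _ (s.1 i).2 _ (s.1 j).2)⟩, Subtype.ext (by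
            have hs' : LinearIndependent F fun i => (s.1 i : Fin 2 ⊕ Fin 2 → F) :=
              s.2.map' (Submodule.subtype _) (Submodule.ker_subtype _)
            refine Submodule.eq_of_le_of_finrank_eq
              (Submodule.span_le.2 (Set.range_subset_iff.2 fun i => (s.1 i).2)) ?_
            rw [finrank_span_eq_card hs', Fintype.card_fin, W.2.1])⟩
        left_inv := fun _ => rfl
        right_inv := fun _ => rfl }
    have h := card_isoTuples (k := 2) hA hB (finrank_sympSpace 2 F) le_rfl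
    rw [← Nat.card_congr (Equiv.sigmaFiberEquiv sp), Nat.card_sigma,
      Finset.sum_congr rfl (g := fun _ => (q ^ 2 - 1) * (q ^ 2 - q)) (fun W _ => ?_),
      Finset.sum_const, Finset.card_univ, ← Nat.card_eq_fintype_card, smul_eq_mul,
      Nat.card_eq_fintype_card (α := F), hF] at h
    · simp only [ordProd, Nat.sub_self, Finset.prod_range_zero, mul_one, Finset.prod_range_succ,
        zero_add, one_mul, Nat.reduceAdd, Nat.reduceMul, Nat.reduceSub, Nat.reduceDiv, pow_one] at h
      have a2 : q ≤ q ^ 2 := Nat.le_self_pow two_ne_zero q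
      have a4 : 1 ≤ q ^ 4 := Nat.one_le_pow _ _ (by omega)
      have a1 : 1 ≤ q ^ 2 := Nat.one_le_pow _ _ (by omega)
      show Nat.card 𝒲 = _
      generalize Nat.card 𝒲 = N at h ⊢
      zify [a1, a2, a4] at h ⊢
      have hz : (0 : ℤ) < ((q : ℤ) ^ 2 - 1) * ((q : ℤ) ^ 2 - q) := by
        have : (2 : ℤ) ≤ q := by exact_mod_cast hq2
        exact mul_pos (by nlinarith) (by nlinarith)
      apply mul_right_cancel₀ hz.ne'
      linear_combination h
    · have : Fintype (W : Submodule F (Fin 2 ⊕ Fin 2 → F)) := Fintype.ofFinite _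
      rw [Nat.card_congr (efib W), card_linearIndependent (le_of_eq W.2.1.symm), W.2.1,
        Fin.prod_univ_two, hF]
      simp
  · intro v hv
    let 𝒲 := {W : Submodule F (Fin 2 ⊕ Fin 2 → F) //
      Module.finrank F W = 2 ∧ v ∈ W ∧ ∀ u ∈ W, ∀ w ∈ W, Cfsg.sympForm 2 F u w = 0}
    have : Finite (Submodule F (Fin 2 ⊕ Fin 2 → F)) :=
      Finite.of_injective (fun W => (W : Set (Fin 2 ⊕ Fin 2 → F))) SetLike.coe_injective
    have : Fintype 𝒲 := Fintype.ofFinite 𝒲
    let T := {w : Fin 1 → Fin 2 ⊕ Fin 2 → F // Fin.cons v w ∈ isoTuples B 2}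
    let sp : T → 𝒲 := fun w => ⟨Submodule.span F (Set.range (Fin.cons v w.1)),
      (hspan _ w.2).1, Submodule.subset_span ⟨0, rfl⟩, (hspan _ w.2).2⟩
    obtain ⟨f, -, hvf⟩ := exists_partner (nondeg_top hB) (Submodule.mem_top (x := v)) hv
    obtain ⟨hc, hUn⟩ := nondeg_orthogonal hA hB (nondeg_pair hA hvf)
    have hrW : Module.finrank F (Submodule.span F ({v, f} : Set (Fin 2 ⊕ Fin 2 → F))) = 2 := by
      have h := finrank_span_eq_card (linearIndependent_pair_of_one hA hvf)
      rwa [Matrix.range_cons_cons_empty, Fintype.card_fin] at h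
    have hr := Submodule.finrank_add_eq_of_isCompl hc
    rw [finrank_sympSpace] at hr
    have hT : Nat.card T = q * (q ^ 2 - 1) := by
      have h1 := card_isoTuples_tail (F := F) hA hvf 1
      have h2 := card_isoTuples (k := 1) (restrict_isAlt hA
        (B.orthogonal (Submodule.span F ({v, f} : Set (Fin 2 ⊕ Fin 2 → F)))))
        (restrict_nondegenerate hA hUn) (m := 1) (by omega) le_rfl
      simp only [ordProd, Nat.sub_self, Finset.prod_range_zero, mul_one,
        Finset.prod_range_succ, one_mul, zero_add, Nat.reduceMul, Nat.reduceSub, Nat.reduceDiv,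
        pow_zero, Nat.reduceAdd, Nat.reducePow] at h2
      rw [h2, Nat.card_eq_fintype_card (α := F), hF, pow_one] at h1
      exact h1
    have hfib : ∀ W : 𝒲, Nat.card {w : T // sp w = W} = q ^ 2 - q := by
      intro W
      have hsub : Submodule.span F {v} ≤ W.1 := by
        rw [Submodule.span_le, Set.singleton_subset_iff]; exact W.2.2.1
      have e : {w : T // sp w = W} ≃
          {x : W.1 // (x : Fin 2 ⊕ Fin 2 → F) ∉ Submodule.span F {v}} :=
        { toFun := fun w => ⟨⟨w.1.1 0, by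
              have h0 : Submodule.span F (Set.range (Fin.cons v w.1.1)) = W.1 :=
                congrArg Subtype.val w.2
              rw [← h0]
              exact Submodule.subset_span ⟨1, rfl⟩⟩, fun hc => by
            obtain ⟨a, ha⟩ := Submodule.mem_span_singleton.1 hc
            have hl := Fintype.linearIndependent_iff.1 w.1.2.1 ![a, -1] (by
              rw [Fin.sum_univ_two]
              show a • v + (-1 : F) • w.1.1 0 = 0
              rw [ha, neg_one_smul, add_neg_cancel]) 1
            simp at hl⟩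
          invFun := fun x => ⟨⟨fun _ => (x.1 : Fin 2 ⊕ Fin 2 → F), by
              refine ⟨linearIndependent_finCons.2 ⟨?_, ?_⟩, fun i j => ?_⟩
              · exact linearIndependent_unique_iff.2 fun h0 => x.2 (by
                  rw [show (x.1 : Fin 2 ⊕ Fin 2 → F) = 0 from h0]
                  exact Submodule.zero_mem _)
              · intro h
                rw [Set.range_const, Submodule.mem_span_singleton] at h
                obtain ⟨a, ha⟩ := h
                have ha0 : a ≠ 0 := fun h0 => hv (by rw [← ha, h0, zero_smul])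
                refine x.2 (Submodule.mem_span_singleton.2 ⟨a⁻¹, ?_⟩)
                exact (inv_smul_eq_iff₀ ha0).2 ha.symm
              · have hmem : ∀ i : Fin 2, (Fin.cons v fun _ : Fin 1 => (x.1 : Fin 2 ⊕ Fin 2 → F) :
                    Fin 2 → Fin 2 ⊕ Fin 2 → F) i ∈ W.1 := fun i => by
                  fin_cases i
                  · exact W.2.2.1
                  · exact x.1.2
                exact (sympBil_eq_zero_iff _ _).2 (W.2.2.2 _ (hmem i) _ (hmem j))⟩, by
            apply Subtype.ext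
            have hli : LinearIndependent F (Fin.cons v fun _ : Fin 1 =>
                (x.1 : Fin 2 ⊕ Fin 2 → F)) := linearIndependent_finCons.2
              ⟨linearIndependent_unique_iff.2 fun h0 => x.2 (by
                  rw [show (x.1 : Fin 2 ⊕ Fin 2 → F) = 0 from h0]
                  exact Submodule.zero_mem _), fun h => by
                rw [Set.range_const, Submodule.mem_span_singleton] at h
                obtain ⟨a, ha⟩ := h
                have ha0 : a ≠ 0 := fun h0 => hv (by rw [← ha, h0, zero_smul])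
                refine x.2 (Submodule.mem_span_singleton.2 ⟨a⁻¹, ?_⟩)
                exact (inv_smul_eq_iff₀ ha0).2 ha.symm⟩
            refine Submodule.eq_of_le_of_finrank_eq (Submodule.span_le.2
              (Set.range_subset_iff.2 fun i => ?_)) ?_
            · fin_cases i
              · exact W.2.2.1
              · exact x.1.2
            · rw [finrank_span_eq_card hli, Fintype.card_fin, W.2.1]⟩
          left_inv := fun w => Subtype.ext (Subtype.ext (funext fun i => by
            rw [Subsingleton.elim i 0]))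
          right_inv := fun _ => rfl }
      rw [Nat.card_congr e]
      have hcs : Nat.card {x : W.1 // (x : Fin 2 ⊕ Fin 2 → F) ∈ Submodule.span F {v}} = q := by
        show Nat.card ↥(Submodule.comap W.1.subtype (Submodule.span F {v})) = q
        rw [Nat.card_congr (Submodule.comapSubtypeEquivOfLe hsub).toEquiv,
          Module.natCard_eq_pow_finrank (K := F), finrank_span_singleton hv, pow_one,
          Nat.card_eq_fintype_card, hF]
      have hcW : Nat.card W.1 = q ^ 2 := by
        rw [Module.natCard_eq_pow_finrank (K := F), W.2.1, Nat.card_eq_fintype_card, hF]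
      have hsum := Nat.card_congr (Equiv.sumCompl fun x : W.1 =>
        (x : Fin 2 ⊕ Fin 2 → F) ∈ Submodule.span F {v})
      rw [Nat.card_sum, hcs, hcW] at hsum
      omega
    have h := Nat.card_congr (Equiv.sigmaFiberEquiv sp)
    rw [Nat.card_sigma, Finset.sum_congr rfl (fun W _ => hfib W), Finset.sum_const,
      Finset.card_univ, ← Nat.card_eq_fintype_card, smul_eq_mul, hT] at h
    show Nat.card 𝒲 = _
    generalize Nat.card 𝒲 = N at h ⊢
    have a2 : q ≤ q ^ 2 := Nat.le_self_pow two_ne_zero q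
    have a1 : 1 ≤ q ^ 2 := Nat.one_le_pow _ _ (by omega)
    zify [a1, a2] at h ⊢
    have hz : (0 : ℤ) < (q : ℤ) ^ 2 - q := by
      have : (2 : ℤ) ≤ q := by exact_mod_cast hq2
      nlinarith
    apply mul_right_cancel₀ hz.ne'
    linear_combination h

end CfsgLib.Classical.Symp
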