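import Cfsg.Agent.Lib.Classical.Symplectic.Geometry
import Cfsg.Agent.Lib.Classical.Quad.PlusMinusType

/-!
Tensor product of two alternating forms.
-/

set_option autoImplicit false

namespace CfsgLib.Classical.Symp

open LinearMap (BilinForm)
open scoped TensorProduct

variable {F : Type*} [Field F] {U W : Type*} [AddCommGroup U] [Module F U] [AddCommGroup W]
  [Module F W] {B₁ : BilinForm F U} {B₂ : BilinForm F W}

theorem tmul_comm_of_isAlt (hA₁ : B₁.IsAlt) (hA₂ : B₂.IsAlt) (x y : U ⊗[F] W) :
    B₁.tmul B₂ x y = B₁.tmul B₂ y x := by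
  induction x using TensorProduct.induction_on with
  | zero => simp
  | add a b ha hb => simp [ha, hb]
  | tmul u w =>
    induction y using TensorProduct.induction_on with
    | zero => simp
    | add a b ha hb => simp [ha, hb]
    | tmul u' w' =>
      simp only [LinearMap.BilinForm.tensorDistrib_tmul, smul_eq_mul, swap hA₁ u' u, swap hA₂ w' w]
      ring

theorem tmul_alt_half [FiniteDimensional F U] [FiniteDimensional F W] (h₁ : B₁.Nondegenerate)
    (hA₁ : B₁.IsAlt) {k m : ℕ} (hU : Module.finrank F U = 2 * k)
    (hW : Module.finrank F W = 2 * m) :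
    ∃ X : Submodule F (U ⊗[F] W), Module.finrank F X = 2 * k * m ∧
      ∀ x ∈ X, ∀ y ∈ X, (B₁.tmul B₂) x y = 0 := by
  obtain ⟨k', v, hv, hk⟩ := exists_sympSys hA₁ h₁
  obtain rfl : k' = k := by omega
  let c := Module.finBasis F W
  let g : Fin k' × Fin (Module.finrank F W) → U ⊗[F] W := fun p => v (.inl p.1) ⊗ₜ c p.2
  have hli : LinearIndependent F g := by
    by_cases hk0 : k' = 0
    · subst hk0; exact linearIndependent_empty_type
    have : Nonempty (Fin k' ⊕ Fin k') := ⟨.inl ⟨0, by omega⟩⟩
    let b := basisOfLinearIndependentOfCardEqFinrank (hv.linearIndependent hA₁)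
      (by simp; omega)
    have : g = (b.tensorProduct c) ∘ fun p => (Sum.inl p.1, p.2) := by
      funext p
      simp [g, b]
    rw [this]
    exact (b.tensorProduct c).linearIndependent.comp _ fun p q h => by
      simpa [Prod.ext_iff] using h
  refine ⟨Submodule.span F (Set.range g), ?_, ?_⟩
  · rw [finrank_span_eq_card hli, Fintype.card_prod, Fintype.card_fin, Fintype.card_fin, hW]
    ring
  intro x hx y hy
  induction hx using Submodule.span_induction with
  | zero => simp
  | add a b _ _ ha hb => simp [ha, hb]
  | smul r a _ ha => simp [ha]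
  | mem a ha =>
    induction hy using Submodule.span_induction with
    | zero => simp
    | add a b _ _ ha hb => simp [ha, hb]
    | smul r a _ ha => simp [ha]
    | mem b hb =>
      obtain ⟨p, rfl⟩ := ha
      obtain ⟨q, rfl⟩ := hb
      simp [g, hv.2.1]

end CfsgLib.Classical.Symp
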